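import Cfsg.Agent.Lib.Chevalley.Twist.F4Alt
import Cfsg.Agent.Lib.Chevalley.FieldFix

/-! Conjugations inside the split torus act through Weyl group words. -/

set_option autoImplicit false
set_option linter.unusedSectionVars false

namespace Cfsg.Agent.Chevalley.AltSection

open Cfsg.Lie Cfsg.Agent.Chevalley Cfsg.Agent.Chevalley.Table Cfsg.Agent.Chevalley.Cert
  Cfsg.Agent.Chevalley.Group Cfsg.Agent.Chevalley.Unip Cfsg.Agent.Chevalley.Borel
  Cfsg.Agent.Chevalley.Weyl Cfsg.Agent.Chevalley.Bruhat Cfsg.Agent.Chevalley.NormalForm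

variable {D : ChevalleyDatum} {F : Type*} [Field F] {T : Tab} (hC : Certified D T)
include hC

theorem torChar_eq {c d : ℕ → Fˣ} (h : tor D c = tor D d) {r : ℕ} (hr : r < D.nroots) :
    torChar D c r = torChar D d r := by
  have e := tor_conj_x (F := F) hC c r 1 hr
  rw [h, tor_conj_x hC d r 1 hr, mul_one, mul_one] at e
  exact (Units.ext (xg_injective hC hr e)).symm

/-- Conjugation by a monomial element moves the characters of the torus by its word. -/
theorem char_conj {c d d' : ℕ → Fˣ} {L : List ℕ} (hL : ∀ i ∈ L, i < D.rank)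
    (h : tor D c * nL hC F L * tor D d * (tor D c * nL hC F L)⁻¹ = tor D d') {r : ℕ}
    (hr : r < D.nroots) : torChar D d' (wL D L r) = torChar D d r := by
  have h0 : nL hC F L * tor D d * (nL hC F L)⁻¹ = tor D d' := by
    calc nL hC F L * tor D d * (nL hC F L)⁻¹
        = (tor D c)⁻¹ * (tor D c * nL hC F L * tor D d * (tor D c * nL hC F L)⁻¹) * tor D c := by
          group
      _ = tor D d' := by
          rw [h, mul_assoc, H_comm hC (tor_mem_H hC d') (tor_mem_H hC c), inv_mul_cancel_left]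
  obtain ⟨η, hη, e⟩ := nL_conj_x (F := F) hC hL hr
  have e1 : tor D d' * (nL hC F L * xg hC r 1 * (nL hC F L)⁻¹) * (tor D d')⁻¹ =
      nL hC F L * (tor D d * xg hC r 1 * (tor D d)⁻¹) * (nL hC F L)⁻¹ := by
    rw [← h0]; group
  rw [e, tor_conj_x hC d r 1 hr, e, tor_conj_x hC d' _ _ (wL_lt hC hL hr)] at e1
  have e2 := xg_injective hC (wL_lt hC hL hr) e1
  rw [mul_one, mul_one, mul_comm η] at e2
  exact Units.ext (mul_right_cancel₀ hη e2)

theorem rep_lt {L : List ℕ} (hL : ∀ i ∈ L, i < D.rank) (k : ℕ) :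
    ∀ i ∈ (List.replicate k L).flatten, i < D.rank := fun i hi => by
  obtain ⟨l, hl, hil⟩ := List.mem_flatten.1 hi
  rw [List.eq_of_mem_replicate hl] at hil
  exact hL i hil

/-- A conjugation of a set in the torus into itself acts through a word. -/
theorem exists_word {g : GL D.Idx F} (hg : g ∈ D.group F) {P : Set (GL D.Idx F)}
    (hP : ∀ x ∈ P, x ∈ D.diagonalSubgroup F) (hgP : ∀ x ∈ P, g * x * g⁻¹ ∈ P) :
    ∃ L : List ℕ, (∀ i ∈ L, i < D.rank) ∧ ∀ k : ℕ, ∀ x ∈ P, g ^ k * x * (g ^ k)⁻¹ ∈ P ∧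
      ∀ d d' : ℕ → Fˣ, x = tor D d → g ^ k * x * (g ^ k)⁻¹ = tor D d' → ∀ r < D.nroots,
        torChar D d' (wL D (List.replicate k L).flatten r) = torChar D d r := by
  obtain ⟨b, hb, n, hn, u, hu, rfl⟩ := exists_form hC hg
  obtain ⟨v, hv, t, ht, rfl⟩ := (mem_B_iff hC).1 hb
  obtain ⟨m, hm⟩ : ∃ m, m = t * n := ⟨_, rfl⟩
  have hmN : m ∈ D.monomialSubgroup F := hm ▸ mul_mem (Subgroup.mem_sup_left ht) hn
  have hum : u ∈ Uminus D F m := by
    refine Subgroup.closure_mono ?_ hu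
    rintro x ⟨r, s, hr, hmap, hx⟩
    refine ⟨r, s, hr, ?_, hx⟩
    rintro _ ⟨y, hy, rfl⟩
    have h3 := hmap ⟨y, hy, rfl⟩
    show m * y * m⁻¹ ∈ D.negUnipotent F
    have h4 := (Subgroup.mem_normalizer_iff.1 (H_normalizes_V hC ht) _).1 h3
    simpa [hm, mul_assoc] using h4
  have hgm : v * t * n * u = v * m * u := by rw [hm]; group
  rw [hgm] at hgP ⊢
  obtain ⟨c, L, hL, hmL⟩ := (mem_N_iff hC).1 hmN
  refine ⟨L, hL, fun k => ?_⟩
  induction k with
  | zero =>
    intro x hx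
    refine ⟨by simpa using hx, fun d d' h h' r hr => ?_⟩
    rw [pow_zero, one_mul, inv_one, mul_one, h] at h'
    exact torChar_eq hC h'.symm hr
  | succ k ih =>
    intro x hx
    obtain ⟨h1, h2⟩ := ih x hx
    have h3 := hgP _ h1
    have e : (v * m * u) ^ (k + 1) * x * ((v * m * u) ^ (k + 1))⁻¹ =
        v * m * u * ((v * m * u) ^ k * x * ((v * m * u) ^ k)⁻¹) * (v * m * u)⁻¹ := by
      simp only [pow_succ', mul_inv_rev, mul_assoc]
    refine ⟨e ▸ h3, fun d d' h h' r hr => ?_⟩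
    obtain ⟨d1, hd1⟩ := (mem_H_iff hC).1 (hP _ h1)
    have h4 := Twist.F4Alt.conj_form hC hv hmN hum (hP _ h1) (hP _ h3) rfl
    rw [← e, h', hd1, hmL] at h4
    rw [List.replicate_succ, List.flatten_cons, wL_append,
      char_conj hC hL h4 (wL_lt hC (rep_lt hC hL k) hr), h2 d d1 h hd1 r hr]

/-- A power of a word fixing all roots gives a trivial power of the conjugation. -/
theorem pow_fix {L : List ℕ} {k : ℕ} {g x : GL D.Idx F}
    (hx : x ∈ D.diagonalSubgroup F) (hy : g ^ k * x * (g ^ k)⁻¹ ∈ D.diagonalSubgroup F)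
    (h : ∀ d d' : ℕ → Fˣ, x = tor D d → g ^ k * x * (g ^ k)⁻¹ = tor D d' → ∀ r < D.nroots,
      torChar D d' (wL D (List.replicate k L).flatten r) = torChar D d r)
    (hw : ∀ r < D.nroots, wL D (List.replicate k L).flatten r = r) :
    g ^ k * x * (g ^ k)⁻¹ = x := by
  obtain ⟨d, hd⟩ := (mem_H_iff hC).1 hx
  obtain ⟨d', hd'⟩ := (mem_H_iff hC).1 hy
  rw [hd', hd]
  refine dg_congr fun r hr => ?_
  have := h d d' hd hd' r hr
  rwa [hw r hr] at this

end Cfsg.Agent.Chevalley.AltSection
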