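import Cfsg.Agent.Lib.Chevalley.AltSection.WeylF4Data
import Cfsg.Agent.Lib.Chevalley.Twist.Build
import Cfsg.Agent.Lib.Chevalley.WeylEnum
import Cfsg.Agent.Lib.Chevalley.StConj

/-! Every element of the Weyl group of type F4 satisfies one of three relations. -/

set_option autoImplicit false
set_option maxRecDepth 100000
set_option Elab.async false

namespace Cfsg.Agent.Chevalley.AltSection.WeylF4

open Cfsg.Lie Cfsg.Agent.Chevalley Cfsg.Agent.Chevalley.Table Cfsg.Agent.Chevalley.Cert
  Cfsg.Agent.Chevalley.Group Cfsg.Agent.Chevalley.WeylEnum Cfsg.Agent.Chevalley.Twist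

abbrev hC : Certified chevF4 Data.F4.tab := Types.F4.certified

/-- The entry with a given number. -/
def ent (k : ℕ) : List ℕ × List ℕ := (blocks.getD (k / 64) []).getD (k % 64) ([], [])

/-- Powers of a word. -/
def rp (n : ℕ) (e : List ℕ) : List ℕ := (List.replicate n e).flatten

/-- The simple reflections of the roots, packed. -/
def rtab : List ℕ := [0x2f2e2d28201f1e2c2726251d1c1b0e2b2a292423221a19181716150d0c0b060504211413120a09080311100f07020100, 0x2f2e2b2c2d2a292728242326252122201a191d1c141f1e181711101b131216150f0d0e0a090c0b070806050203040100, 0x2f2d2e2c2a2b2928262725242223211f201e1d1b1c18161a151917131412110f100e0c0d0b0a08090706040503010200, 0x2e2f2d2c2b292a2827252623242221201e1f1c1d1b191a1718151614121310110f0e0d0b0c090a080705060403020001]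

/-- A simple reflection. -/
noncomputable def sref (i r : ℕ) : ℕ := slot 8 (rtab.getD i 0) r

/-- A word acting on a root. -/
noncomputable def app (L : List ℕ) (r : ℕ) : ℕ := List.rec r (fun j _ ih => sref j ih) L

/-- The cartan integers of the roots, as a table. -/
noncomputable def car (i r : ℕ) : ℤ := Data.F4.tab.A i r

theorem sref_ok : ((List.range 4).all fun i => (List.range 48).all fun r =>
    Nat.beq (sref i r) (Data.F4.tab.refl i r) && Nat.blt (Data.F4.tab.refl i r) 48) = true := by
  decide +kernel

/-- The entry is closed under the simple reflections. -/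
noncomputable def closeChk (k : ℕ) : Bool :=
  ((ent k).1.all fun i => Nat.blt i 4) &&
    (List.range 4).all fun i => Nat.blt ((ent k).2.getD i 0) 1152 &&
      (List.range 4).all fun j => Nat.beq (app (i :: (ent k).1) (Data.F4.tab.simple j))
        (app (ent ((ent k).2.getD i 0)).1 (Data.F4.tab.simple j))

/-- A word fixes the simple roots. -/
noncomputable def fixS (e : List ℕ) : Bool :=
  (List.range 4).all fun j => Nat.beq (app e (Data.F4.tab.simple j)) (Data.F4.tab.simple j)

/-- One of the three relations. -/
noncomputable def relChk (e : List ℕ) : Bool :=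
  fixS (rp 8 e) || fixS (rp 6 e) ||
    (List.range 48).all fun r => (List.range 4).all fun i =>
      (Data.F4.tab.A i (app (rp 4 e) r) + Data.F4.tab.A i r) ==
        Data.F4.tab.A i (app (rp 2 e) r)

theorem close0 : ((List.range' 0 64).all fun k => closeChk k) = true := by decide +kernel

theorem close64 : ((List.range' 64 64).all fun k => closeChk k) = true := by decide +kernel

theorem close128 : ((List.range' 128 64).all fun k => closeChk k) = true := by decide +kernel

theorem close192 : ((List.range' 192 64).all fun k => closeChk k) = true := by decide +kernel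

theorem close256 : ((List.range' 256 64).all fun k => closeChk k) = true := by decide +kernel

theorem close320 : ((List.range' 320 64).all fun k => closeChk k) = true := by decide +kernel

theorem close384 : ((List.range' 384 64).all fun k => closeChk k) = true := by decide +kernel

theorem close448 : ((List.range' 448 64).all fun k => closeChk k) = true := by decide +kernel

theorem close512 : ((List.range' 512 64).all fun k => closeChk k) = true := by decide +kernel

theorem close576 : ((List.range' 576 64).all fun k => closeChk k) = true := by decide +kernel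

theorem close640 : ((List.range' 640 64).all fun k => closeChk k) = true := by decide +kernel

theorem close704 : ((List.range' 704 64).all fun k => closeChk k) = true := by decide +kernel

theorem close768 : ((List.range' 768 64).all fun k => closeChk k) = true := by decide +kernel

theorem close832 : ((List.range' 832 64).all fun k => closeChk k) = true := by decide +kernel

theorem close896 : ((List.range' 896 64).all fun k => closeChk k) = true := by decide +kernel

theorem close960 : ((List.range' 960 64).all fun k => closeChk k) = true := by decide +kernel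

theorem close1024 : ((List.range' 1024 64).all fun k => closeChk k) = true := by decide +kernel

theorem close1088 : ((List.range' 1088 64).all fun k => closeChk k) = true := by decide +kernel

theorem rel0 : ((List.range' 0 64).all fun k => relChk (ent k).1) = true := by decide +kernel

theorem rel64 : ((List.range' 64 64).all fun k => relChk (ent k).1) = true := by decide +kernel

theorem rel128 : ((List.range' 128 64).all fun k => relChk (ent k).1) = true := by decide +kernel

theorem rel192 : ((List.range' 192 64).all fun k => relChk (ent k).1) = true := by decide +kernel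

theorem rel256 : ((List.range' 256 64).all fun k => relChk (ent k).1) = true := by decide +kernel

theorem rel320 : ((List.range' 320 64).all fun k => relChk (ent k).1) = true := by decide +kernel

theorem rel384 : ((List.range' 384 64).all fun k => relChk (ent k).1) = true := by decide +kernel

theorem rel448 : ((List.range' 448 64).all fun k => relChk (ent k).1) = true := by decide +kernel

theorem rel512 : ((List.range' 512 64).all fun k => relChk (ent k).1) = true := by decide +kernel

theorem rel576 : ((List.range' 576 64).all fun k => relChk (ent k).1) = true := by decide +kernel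

theorem rel640 : ((List.range' 640 64).all fun k => relChk (ent k).1) = true := by decide +kernel

theorem rel704 : ((List.range' 704 64).all fun k => relChk (ent k).1) = true := by decide +kernel

theorem rel768 : ((List.range' 768 64).all fun k => relChk (ent k).1) = true := by decide +kernel

theorem rel832 : ((List.range' 832 64).all fun k => relChk (ent k).1) = true := by decide +kernel

theorem rel896 : ((List.range' 896 64).all fun k => relChk (ent k).1) = true := by decide +kernel

theorem rel960 : ((List.range' 960 64).all fun k => relChk (ent k).1) = true := by decide +kernel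

theorem rel1024 : ((List.range' 1024 64).all fun k => relChk (ent k).1) = true := by decide +kernel

theorem rel1088 : ((List.range' 1088 64).all fun k => relChk (ent k).1) = true := by decide +kernel

theorem close_ok : ∀ k < 1152, closeChk k = true := by
  intro k hk
  by_cases h0 : k < 64
  · exact List.all_eq_true.1 close0 k (List.mem_range'_1.2 ⟨by omega, by omega⟩)
  by_cases h64 : k < 128
  · exact List.all_eq_true.1 close64 k (List.mem_range'_1.2 ⟨by omega, by omega⟩)
  by_cases h128 : k < 192
  · exact List.all_eq_true.1 close128 k (List.mem_range'_1.2 ⟨by omega, by omega⟩)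
  by_cases h192 : k < 256
  · exact List.all_eq_true.1 close192 k (List.mem_range'_1.2 ⟨by omega, by omega⟩)
  by_cases h256 : k < 320
  · exact List.all_eq_true.1 close256 k (List.mem_range'_1.2 ⟨by omega, by omega⟩)
  by_cases h320 : k < 384
  · exact List.all_eq_true.1 close320 k (List.mem_range'_1.2 ⟨by omega, by omega⟩)
  by_cases h384 : k < 448
  · exact List.all_eq_true.1 close384 k (List.mem_range'_1.2 ⟨by omega, by omega⟩)
  by_cases h448 : k < 512
  · exact List.all_eq_true.1 close448 k (List.mem_range'_1.2 ⟨by omega, by omega⟩)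
  by_cases h512 : k < 576
  · exact List.all_eq_true.1 close512 k (List.mem_range'_1.2 ⟨by omega, by omega⟩)
  by_cases h576 : k < 640
  · exact List.all_eq_true.1 close576 k (List.mem_range'_1.2 ⟨by omega, by omega⟩)
  by_cases h640 : k < 704
  · exact List.all_eq_true.1 close640 k (List.mem_range'_1.2 ⟨by omega, by omega⟩)
  by_cases h704 : k < 768
  · exact List.all_eq_true.1 close704 k (List.mem_range'_1.2 ⟨by omega, by omega⟩)
  by_cases h768 : k < 832
  · exact List.all_eq_true.1 close768 k (List.mem_range'_1.2 ⟨by omega, by omega⟩)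
  by_cases h832 : k < 896
  · exact List.all_eq_true.1 close832 k (List.mem_range'_1.2 ⟨by omega, by omega⟩)
  by_cases h896 : k < 960
  · exact List.all_eq_true.1 close896 k (List.mem_range'_1.2 ⟨by omega, by omega⟩)
  by_cases h960 : k < 1024
  · exact List.all_eq_true.1 close960 k (List.mem_range'_1.2 ⟨by omega, by omega⟩)
  by_cases h1024 : k < 1088
  · exact List.all_eq_true.1 close1024 k (List.mem_range'_1.2 ⟨by omega, by omega⟩)
  by_cases h1088 : k < 1152
  · exact List.all_eq_true.1 close1088 k (List.mem_range'_1.2 ⟨by omega, by omega⟩)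
  omega

theorem rel_ok : ∀ k < 1152, relChk (ent k).1 = true := by
  intro k hk
  by_cases h0 : k < 64
  · exact List.all_eq_true.1 rel0 k (List.mem_range'_1.2 ⟨by omega, by omega⟩)
  by_cases h64 : k < 128
  · exact List.all_eq_true.1 rel64 k (List.mem_range'_1.2 ⟨by omega, by omega⟩)
  by_cases h128 : k < 192
  · exact List.all_eq_true.1 rel128 k (List.mem_range'_1.2 ⟨by omega, by omega⟩)
  by_cases h192 : k < 256
  · exact List.all_eq_true.1 rel192 k (List.mem_range'_1.2 ⟨by omega, by omega⟩)
  by_cases h256 : k < 320
  · exact List.all_eq_true.1 rel256 k (List.mem_range'_1.2 ⟨by omega, by omega⟩)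
  by_cases h320 : k < 384
  · exact List.all_eq_true.1 rel320 k (List.mem_range'_1.2 ⟨by omega, by omega⟩)
  by_cases h384 : k < 448
  · exact List.all_eq_true.1 rel384 k (List.mem_range'_1.2 ⟨by omega, by omega⟩)
  by_cases h448 : k < 512
  · exact List.all_eq_true.1 rel448 k (List.mem_range'_1.2 ⟨by omega, by omega⟩)
  by_cases h512 : k < 576
  · exact List.all_eq_true.1 rel512 k (List.mem_range'_1.2 ⟨by omega, by omega⟩)
  by_cases h576 : k < 640
  · exact List.all_eq_true.1 rel576 k (List.mem_range'_1.2 ⟨by omega, by omega⟩)
  by_cases h640 : k < 704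
  · exact List.all_eq_true.1 rel640 k (List.mem_range'_1.2 ⟨by omega, by omega⟩)
  by_cases h704 : k < 768
  · exact List.all_eq_true.1 rel704 k (List.mem_range'_1.2 ⟨by omega, by omega⟩)
  by_cases h768 : k < 832
  · exact List.all_eq_true.1 rel768 k (List.mem_range'_1.2 ⟨by omega, by omega⟩)
  by_cases h832 : k < 896
  · exact List.all_eq_true.1 rel832 k (List.mem_range'_1.2 ⟨by omega, by omega⟩)
  by_cases h896 : k < 960
  · exact List.all_eq_true.1 rel896 k (List.mem_range'_1.2 ⟨by omega, by omega⟩)
  by_cases h960 : k < 1024
  · exact List.all_eq_true.1 rel960 k (List.mem_range'_1.2 ⟨by omega, by omega⟩)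
  by_cases h1024 : k < 1088
  · exact List.all_eq_true.1 rel1024 k (List.mem_range'_1.2 ⟨by omega, by omega⟩)
  by_cases h1088 : k < 1152
  · exact List.all_eq_true.1 rel1088 k (List.mem_range'_1.2 ⟨by omega, by omega⟩)
  omega

theorem ent_zero : (ent 0).1 = [] := by decide +kernel

theorem rank_eq : chevF4.rank = 4 := by decide +kernel

theorem nroots_eq : chevF4.nroots = 48 := by decide +kernel

theorem ent_lt {k : ℕ} (hk : k < 1152) : ∀ i ∈ (ent k).1, i < chevF4.rank := by
  intro i hi
  have h := close_ok k hk
  simp only [closeChk, Bool.and_eq_true] at h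
  rw [rank_eq]
  exact Nat.blt_eq ▸ List.all_eq_true.1 h.1 i hi

theorem app_eq {L : List ℕ} (hL : ∀ i ∈ L, i < chevF4.rank) {r : ℕ} (hr : r < chevF4.nroots) :
    app L r = applyW Data.F4.tab L r := by
  suffices app L r = applyW Data.F4.tab L r ∧ app L r < 48 from this.1
  induction L with
  | nil => exact ⟨rfl, nroots_eq ▸ hr⟩
  | cons i L ih =>
    obtain ⟨h1, h2⟩ := ih fun j hj => hL j (List.mem_cons_of_mem i hj)
    have h := List.all_eq_true.1 (List.all_eq_true.1 sref_ok i
      (List.mem_range.2 (rank_eq ▸ hL i List.mem_cons_self))) (app L r) (List.mem_range.2 h2)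
    simp only [Bool.and_eq_true, Nat.blt_eq] at h
    have e : app (i :: L) r = Data.F4.tab.refl i (app L r) := Nat.eq_of_beq_eq_true h.1
    refine ⟨e.trans (congrArg (Data.F4.tab.refl i) h1), e ▸ h.2⟩

theorem cover : ∀ L : List ℕ, (∀ i ∈ L, i < chevF4.rank) →
    ∃ k < 1152, Eqv chevF4 L (ent k).1
  | [], _ => ⟨0, by norm_num, by rw [ent_zero]; exact fun _ _ => rfl⟩
  | i :: L, h => by
    obtain ⟨k, hk, hLk⟩ := cover L fun j hj => h j (List.mem_cons_of_mem i hj)
    have hi : i < 4 := rank_eq ▸ h i List.mem_cons_self
    have hc := close_ok k hk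
    simp only [closeChk, Bool.and_eq_true] at hc
    have hc2 := List.all_eq_true.1 hc.2 i (List.mem_range.2 hi)
    simp only [Bool.and_eq_true, Nat.blt_eq] at hc2
    refine ⟨_, hc2.1, fun r hr => ?_⟩
    have hik : ∀ j ∈ i :: (ent k).1, j < chevF4.rank :=
      List.forall_mem_cons.2 ⟨h i List.mem_cons_self, ent_lt hk⟩
    have e : Eqv chevF4 (i :: (ent k).1) (ent ((ent k).2.getD i 0)).1 := by
      refine eqv_of_simple hC hik (ent_lt hc2.1) fun j hj => ?_
      have h3 := Nat.eq_of_beq_eq_true
        (List.all_eq_true.1 hc2.2 j (List.mem_range.2 (rank_eq ▸ hj)))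
      rw [hC.simple_eq hj, app_eq hik (hC.simple_lt hj), app_eq (ent_lt hc2.1) (hC.simple_lt hj)] at h3
      rw [← StConj.actT_foldr hC hik (hC.simple_lt hj),
        ← StConj.actT_foldr hC (ent_lt hc2.1) (hC.simple_lt hj)]
      exact h3
    rw [← e r hr, show i :: L = [i] ++ L from rfl, show i :: (ent k).1 = [i] ++ (ent k).1 from rfl,
      wL_append, wL_append, hLk r hr]

theorem rp_lt {e : List ℕ} (he : ∀ i ∈ e, i < chevF4.rank) (n : ℕ) :
    ∀ i ∈ rp n e, i < chevF4.rank := fun i hi => by
  obtain ⟨l, hl, hil⟩ := List.mem_flatten.1 hi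
  rw [List.eq_of_mem_replicate hl] at hil
  exact he i hil

theorem rp_congr {L e : List ℕ} (hL : ∀ i ∈ L, i < chevF4.rank) (h : Eqv chevF4 L e) :
    ∀ n, ∀ r < chevF4.nroots, wL chevF4 (rp n L) r = wL chevF4 (rp n e) r := by
  intro n
  induction n with
  | zero => intro r _; rfl
  | succ n ih =>
    intro r hr
    simp only [rp, List.replicate_succ, List.flatten_cons, wL_append] at ih ⊢
    rw [← ih r hr]
    exact h _ (wL_lt hC (rp_lt hL n) hr)

/-- The relations. -/
theorem trichotomy {L : List ℕ} (hL : ∀ i ∈ L, i < chevF4.rank) :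
    (∀ r < chevF4.nroots, wL chevF4 (rp 8 L) r = r) ∨
    (∀ r < chevF4.nroots, wL chevF4 (rp 6 L) r = r) ∨
    (∀ r < chevF4.nroots, ∀ i < chevF4.rank, chevF4.cartan i (wL chevF4 (rp 4 L) r) +
      chevF4.cartan i r = chevF4.cartan i (wL chevF4 (rp 2 L) r)) := by
  obtain ⟨k, hk, hLk⟩ := cover L hL
  have hfix : ∀ n, fixS (rp n (ent k).1) = true → ∀ r < chevF4.nroots,
      wL chevF4 (rp n L) r = r := by
    intro n hn r hr
    rw [rp_congr hL hLk n r hr]
    have e : Eqv chevF4 (rp n (ent k).1) [] := by
      refine eqv_of_simple hC (rp_lt (ent_lt hk) n) (by simp) fun j hj => ?_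
      have h3 := Nat.eq_of_beq_eq_true (List.all_eq_true.1 hn j (List.mem_range.2 (rank_eq ▸ hj)))
      rw [hC.simple_eq hj, app_eq (rp_lt (ent_lt hk) n) (hC.simple_lt hj)] at h3
      rw [← StConj.actT_foldr hC (rp_lt (ent_lt hk) n) (hC.simple_lt hj)]
      exact h3
    exact e r hr
  have h := rel_ok k hk
  simp only [relChk, Bool.or_eq_true] at h
  rcases h with (h | h) | h
  · exact Or.inl (hfix 8 h)
  · exact Or.inr (Or.inl (hfix 6 h))
  · refine Or.inr (Or.inr fun r hr i hi => ?_)
    have h4 := List.all_eq_true.1 (List.all_eq_true.1 h r (List.mem_range.2 (nroots_eq ▸ hr))) i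
      (List.mem_range.2 (rank_eq ▸ hi))
    rw [beq_iff_eq] at h4
    have w4 : applyW Data.F4.tab (rp 4 (ent k).1) r = wL chevF4 (rp 4 L) r := by
      rw [rp_congr hL hLk 4 r hr]; exact StConj.actT_foldr hC (rp_lt (ent_lt hk) 4) hr
    have w2 : applyW Data.F4.tab (rp 2 (ent k).1) r = wL chevF4 (rp 2 L) r := by
      rw [rp_congr hL hLk 2 r hr]; exact StConj.actT_foldr hC (rp_lt (ent_lt hk) 2) hr
    rw [app_eq (rp_lt (ent_lt hk) 4) hr, app_eq (rp_lt (ent_lt hk) 2) hr, w4, w2, hC.linked.A_eq i hi r hr, hC.linked.A_eq i hi _ (wL_lt hC (rp_lt hL 4) hr),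
      hC.linked.A_eq i hi _ (wL_lt hC (rp_lt hL 2) hr)] at h4
    exact h4

end Cfsg.Agent.Chevalley.AltSection.WeylF4
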