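import Cfsg.Agent.Lib.Chevalley.AltSection.Groups
import Cfsg.Agent.Lib.Chevalley.AltSection.Torus
import Cfsg.Agent.Lib.Chevalley.AltSection.WeylF4
import Cfsg.Agent.Lib.Chevalley.Types.OrderF4
import Mathlib.GroupTheory.Perm.ViaEmbedding
import Mathlib.FieldTheory.Finite.GaloisField

/-! Alternating sections of the groups of type F4. -/

set_option autoImplicit false
set_option linter.unusedSectionVars false
set_option maxRecDepth 100000

namespace Cfsg.Agent.Chevalley.AltSection.F4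

open Cfsg.Lie Cfsg.Agent.Chevalley Cfsg.Agent.Chevalley.Table Cfsg.Agent.Chevalley.Cert
  Cfsg.Agent.Chevalley.Group Cfsg.Agent.Chevalley.Unip Cfsg.Agent.Chevalley.Borel

abbrev hC : Certified chevF4 Data.F4.tab := Types.F4.certified

variable {K : Type*} [Field K] [Fintype K]

theorem torus_index {ℓ : ℕ} [Fact ℓ.Prime] (hQ : (Fintype.card K : ZMod ℓ) = 1)
    (hℓ : ¬ ℓ ∣ 2 * 6 * 8 * 12) :
    ¬ ℓ ∣ ((chevF4.diagonalSubgroup K).subgroupOf (chevF4.group K)).index := by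
  classical
  intro h
  obtain ⟨Q, hQd⟩ : ∃ Q, Q = Fintype.card K := ⟨_, rfl⟩
  obtain ⟨T, hT⟩ : ∃ T, T = (chevF4.diagonalSubgroup K).subgroupOf (chevF4.group K) := ⟨_, rfl⟩
  rw [← hT] at h
  have hTc : Nat.card T = (Q - 1) ^ 4 := by
    rw [hT, Nat.card_congr (Subgroup.subgroupOfEquivOfLe (H_le_group hC)).toEquiv, hQd,
      ← Types.OrderF4.card_H K]
    simp [Types.OrderF4.ed, Fin.prod_univ_four]
  have hc := Types.OrderF4.card_group K
  rw [show (∏ i, Nat.gcd (Fintype.card K - 1) (Types.OrderF4.ed i)) = 1 by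
    simp [Types.OrderF4.ed, Fin.prod_univ_four], one_mul, ← Subgroup.card_mul_index T, hTc,
    ← hQd] at hc
  have h2 : 2 ≤ Q := hQd ▸ Fintype.one_lt_card
  obtain ⟨S, hS⟩ : ∃ S : ℕ → ℕ, S = fun d => ∑ i ∈ Finset.range d, Q ^ i := ⟨_, rfl⟩
  have hgs : ∀ d, Q ^ d - 1 = S d * (Q - 1) := fun d => by
    rw [hS]; exact (geom_sum_mul_of_one_le (by omega) d).symm
  simp only [List.map_cons, List.map_nil, List.prod_cons, List.prod_nil, mul_one, hgs] at hc
  have e : T.index = Q ^ 24 * (S 2 * S 6 * S 8 * S 12) :=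
    Nat.eq_of_mul_eq_mul_left (pow_pos (by omega : 0 < Q - 1) 4) (hc.trans (by ring))
  have hz := (ZMod.natCast_eq_zero_iff _ _).2 h
  rw [← hQd] at hQ
  rw [e, hS] at hz
  simp only [Nat.cast_mul, Nat.cast_pow, Nat.cast_sum, hQ, one_pow, Finset.sum_const,
    Finset.card_range, nsmul_eq_mul, mul_one, one_mul] at hz
  refine hℓ ((ZMod.natCast_eq_zero_iff _ _).1 ?_)
  push_cast
  linear_combination hz

variable {H : Type*} [Group H] (ι : H →* GL chevF4.Idx K)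

/-- The three relations. -/
theorem relations (hι : Function.Injective ι) (hG : ∀ x, ι x ∈ chevF4.group K) {g : H}
    {P : Subgroup H} (hP : ∀ x ∈ P, ι x ∈ chevF4.diagonalSubgroup K)
    (hgP : ∀ x ∈ P, g * x * g⁻¹ ∈ P) :
    (∀ x ∈ P, g ^ 8 * x * (g ^ 8)⁻¹ = x) ∨ (∀ x ∈ P, g ^ 6 * x * (g ^ 6)⁻¹ = x) ∨
      (∀ x ∈ P, g ^ 4 * x * (g ^ 4)⁻¹ * x = g ^ 2 * x * (g ^ 2)⁻¹) := by
  obtain ⟨S, hSd⟩ : ∃ S : Set (GL chevF4.Idx K), S = ι '' (P : Set H) := ⟨_, rfl⟩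
  have hS : ∀ z ∈ S, z ∈ chevF4.diagonalSubgroup K := by
    rw [hSd]; rintro _ ⟨x, hx, rfl⟩; exact hP x hx
  have hgS : ∀ z ∈ S, ι g * z * (ι g)⁻¹ ∈ S := by
    rw [hSd]; rintro _ ⟨x, hx, rfl⟩
    exact ⟨g * x * g⁻¹, hgP x hx, by simp⟩
  obtain ⟨L, hL, hword⟩ := exists_word hC (hG g) hS hgS
  have himg : ∀ x ∈ P, ι x ∈ S := fun x hx => hSd ▸ ⟨x, hx, rfl⟩
  have hfix : ∀ k, (∀ r < chevF4.nroots, wL chevF4 (List.replicate k L).flatten r = r) →
      ∀ x ∈ P, g ^ k * x * (g ^ k)⁻¹ = x := by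
    intro k hk x hx
    obtain ⟨h1, h2⟩ := hword k _ (himg x hx)
    refine hι ?_
    rw [map_mul, map_mul, map_inv, map_pow]
    exact pow_fix hC (hP x hx) (hS _ h1) h2 hk
  rcases WeylF4.trichotomy hL with h | h | h
  · exact Or.inl (hfix 8 h)
  · exact Or.inr (Or.inl (hfix 6 h))
  refine Or.inr (Or.inr fun x hx => hι ?_)
  rw [map_mul, map_mul, map_mul, map_inv, map_pow, map_mul, map_mul, map_inv, map_pow]
  obtain ⟨h4, e4⟩ := hword 4 _ (himg x hx)
  obtain ⟨h2, e2⟩ := hword 2 _ (himg x hx)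
  obtain ⟨d, hd⟩ := (mem_H_iff hC).1 (hP x hx)
  obtain ⟨d4, hd4⟩ := (mem_H_iff hC).1 (hS _ h4)
  obtain ⟨d2, hd2⟩ := (mem_H_iff hC).1 (hS _ h2)
  rw [hd4, hd2, hd, tor_mul]
  refine dg_congr fun s hs => ?_
  have hl : ∀ k, ∀ i ∈ (List.replicate k L).flatten, i < chevF4.rank := rep_lt hC hL
  obtain ⟨r, hr, hrs⟩ : ∃ r < chevF4.nroots, wL chevF4 (List.replicate 4 L).flatten r = s := by
    have hlr : ∀ i ∈ (List.replicate 4 L).flatten.reverse, i < chevF4.rank := fun i hi =>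
      hl 4 i (List.mem_reverse.1 hi)
    refine ⟨_, wL_lt hC hlr hs, ?_⟩
    have e := wL_reverse hC hlr hs
    rwa [List.reverse_reverse] at e
  subst hrs
  have a4 := e4 d d4 hd hd4 r hr
  have a2 := e2 d d2 hd hd2 _ (wL_lt hC (hl 2) hr)
  rw [← wL_append, show (List.replicate 2 L).flatten ++ (List.replicate 2 L).flatten =
    (List.replicate 4 L).flatten by simp [List.replicate]] at a2
  rw [a2]
  have hmul : torChar chevF4 (d4 * d) (wL chevF4 (List.replicate 4 L).flatten r) =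
      torChar chevF4 d4 (wL chevF4 (List.replicate 4 L).flatten r) *
        torChar chevF4 d (wL chevF4 (List.replicate 4 L).flatten r) := by
    simp [torChar, mul_zpow, Finset.prod_mul_distrib]
  rw [hmul, a4, torChar, torChar, torChar, ← Finset.prod_mul_distrib]
  refine Finset.prod_congr rfl fun i hi => ?_
  rw [← zpow_add, add_comm]
  exact congrArg (d i ^ ·) (h r hr i (Finset.mem_range.1 hi))

/-- The consequence for an image of the torus part. -/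
theorem relations_image (hι : Function.Injective ι) (hG : ∀ x, ι x ∈ chevF4.group K) {g : H}
    {P : Subgroup H} (hP : ∀ x ∈ P, ι x ∈ chevF4.diagonalSubgroup K)
    (hgP : ∀ x ∈ P, g * x * g⁻¹ ∈ P) {A : Type*} [Group A] (φ : H →* A) {c : A}
    (hc : c ∈ P.map φ) {k : ℕ} (hk : φ g * c * (φ g)⁻¹ = c ^ k) :
    c ^ k ^ 8 = c ∨ c ^ k ^ 6 = c ∨ c ^ k ^ 4 * c = c ^ k ^ 2 := by
  obtain ⟨x, hx, rfl⟩ := hc
  have hpow : ∀ j : ℕ, φ (g ^ j * x * (g ^ j)⁻¹) = φ x ^ k ^ j := by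
    intro j
    induction j with
    | zero => simp
    | succ j ih =>
      rw [show g ^ (j + 1) * x * (g ^ (j + 1))⁻¹ = g * (g ^ j * x * (g ^ j)⁻¹) * g⁻¹ by
        simp only [pow_succ', mul_inv_rev, mul_assoc], map_mul, map_mul, map_inv, ih, ← conj_pow,
        hk, ← pow_mul, pow_succ']
  rcases relations ι hι hG hP hgP with h | h | h
  · exact Or.inl (by rw [← hpow, h x hx])
  · exact Or.inr (Or.inl (by rw [← hpow, h x hx]))
  · exact Or.inr (Or.inr (by rw [← hpow, ← hpow, ← map_mul, h x hx]))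

theorem conj_mem_group {u : GL chevF4.Idx K} (hu : u ∈ chevF4.group K) {z : GL chevF4.Idx K}
    (hz : z ∈ chevF4.group K) : u * z * u⁻¹ ∈ chevF4.group K :=
  mul_mem (mul_mem hu hz) (inv_mem hu)

/-- A subgroup of prime power order can be conjugated into the torus, inside a centralizer. -/
theorem exists_conj_torus {ℓ : ℕ} [Fact ℓ.Prime] (hQ : (Fintype.card K : ZMod ℓ) = 1)
    (hℓ : ¬ ℓ ∣ 2 * 6 * 8 * 12) (hG : ∀ x, ι x ∈ chevF4.group K) {Q : Subgroup H}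
    (hQp : IsPGroup ℓ Q) {S : Set (GL chevF4.Idx K)} (hS : ∀ s ∈ S, s ∈ chevF4.diagonalSubgroup K)
    (hQS : ∀ x ∈ Q, ∀ s ∈ S, ι x * s = s * ι x) :
    ∃ u ∈ chevF4.group K, (∀ s ∈ S, u * s * u⁻¹ = s) ∧
      ∀ x ∈ Q, u * ι x * u⁻¹ ∈ chevF4.diagonalSubgroup K := by
  classical
  haveI : Finite (chevF4.group K) := Finite.of_injective _ Subtype.val_injective
  obtain ⟨C, hC'⟩ : ∃ C, C = (Subgroup.centralizer S).subgroupOf (chevF4.group K) := ⟨_, rfl⟩
  obtain ⟨f, hf⟩ : ∃ f : H →* chevF4.group K, f = ι.codRestrict (chevF4.group K) hG := ⟨_, rfl⟩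
  have hTC : (chevF4.diagonalSubgroup K).subgroupOf (chevF4.group K) ≤ C := by
    intro t ht
    rw [hC', Subgroup.mem_subgroupOf, Subgroup.mem_centralizer_iff]
    exact fun s hs => H_comm hC (hS s hs) (Subgroup.mem_subgroupOf.1 ht)
  have hfC : Q.map f ≤ C := by
    rintro _ ⟨x, hx, rfl⟩
    rw [hC', Subgroup.mem_subgroupOf, Subgroup.mem_centralizer_iff, hf]
    exact fun s hs => (hQS x hx s hs).symm
  obtain ⟨u, hu, huQ⟩ := conj_into (torus_index hQ hℓ) hTC hfC (hQp.map f)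
  rw [hC', Subgroup.mem_subgroupOf, Subgroup.mem_centralizer_iff] at hu
  refine ⟨u, u.2, fun s hs => by rw [← hu s hs, mul_inv_cancel_right], fun x hx => ?_⟩
  have h := huQ (f x) ⟨x, hx, rfl⟩
  rw [hf] at h
  exact h

variable [Finite H] {A : Type*} [Group A] (φ : H →* A) (hφ : Function.Surjective φ)
include hφ

theorem preimage_normalized {c a : A} {Z : Subgroup A} (hZ : Z = Subgroup.zpowers c) {k : ℕ}
    (hac : a * c * a⁻¹ = c ^ k) [Finite A] {h : H} (hh : φ h = a) :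
    ∀ x, x ∈ Z.comap φ ↔ h * x * h⁻¹ ∈ Z.comap φ := by
  have hle : ∀ z ∈ Z, a * z * a⁻¹ ∈ Z := by
    rw [hZ]
    intro z hz
    obtain ⟨j, rfl⟩ := Subgroup.mem_zpowers_iff.1 hz
    rw [← conj_zpow, hac]
    exact zpow_mem (pow_mem (Subgroup.mem_zpowers c) k) j
  have hnorm : a ∈ Subgroup.normalizer (Z : Set A) :=
    Subgroup.mem_normalizer_fintype hle
  intro x
  simp only [Subgroup.mem_comap, map_mul, map_inv, hh]
  exact Subgroup.mem_normalizer_iff.1 hnorm (φ x)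

/-- No element of order eleven whose normalizer induces an automorphism of order five. -/
theorem no_eleven [Finite A] (hι : Function.Injective ι) (hG : ∀ x, ι x ∈ chevF4.group K)
    (hQ : (Fintype.card K : ZMod 11) = 1) {c a : A} (hc : orderOf c = 11)
    (hac : a * c * a⁻¹ = c ^ 4) : False := by
  classical
  haveI : Fact (Nat.Prime 11) := ⟨by norm_num⟩
  obtain ⟨L, hL⟩ : ∃ L, L = (Subgroup.zpowers c).comap φ := ⟨_, rfl⟩
  obtain ⟨P⟩ : Nonempty (Sylow 11 L) := inferInstance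
  obtain ⟨x, hx⟩ := hφ c
  obtain ⟨h, hh⟩ := hφ a
  have hab : ∀ u ∈ L, ∀ v ∈ L, φ u * φ v = φ v * φ u := by
    intro u hu v hv
    rw [hL, Subgroup.mem_comap, Subgroup.mem_zpowers_iff] at hu hv
    obtain ⟨i, hi⟩ := hu; obtain ⟨j, hj⟩ := hv
    rw [← hi, ← hj, ← zpow_add, ← zpow_add, add_comm]
  have hcP : c ∈ ((P : Subgroup L).map L.subtype).map φ :=
    hx ▸ mem_map_sylow φ hab P (hL ▸ by simp [hx]) (hx ▸ hc)
  obtain ⟨l, hl, hlP⟩ := frattini P (hL ▸ preimage_normalized φ hφ rfl hac hh)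
  obtain ⟨u, hu, -, huP⟩ := exists_conj_torus ι hQ (by norm_num) hG
    (Q := (P : Subgroup L).map L.subtype) (P.2.map _) (S := ∅) (by simp) (by simp)
  have hk : φ (l * h) * c * (φ (l * h))⁻¹ = c ^ 4 := by
    rw [hL, Subgroup.mem_comap, Subgroup.mem_zpowers_iff] at hl
    obtain ⟨j, hj⟩ := hl
    rw [map_mul, hh, ← hj, show c ^ j * a * c * (c ^ j * a)⁻¹ = c ^ j * (a * c * a⁻¹) * (c ^ j)⁻¹ by
      group, hac]
    group
  have key := relations_image ((MulAut.conj u).toMonoidHom.comp ι)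
    ((MulAut.conj u).injective.comp hι) (fun x => conj_mem_group hu (hG x))
    (fun x hx => huP x hx) hlP φ hcP hk
  rcases key with e | e | e
  · rw [← pow_mod_orderOf c (_ ^ 8), hc] at e
    have := pow_injOn_Iio_orderOf (x := c) (by simp [hc]) (by simp [hc]) (e.trans (pow_one c).symm)
    norm_num at this
  · rw [← pow_mod_orderOf c (_ ^ 6), hc] at e
    have := pow_injOn_Iio_orderOf (x := c) (by simp [hc]) (by simp [hc]) (e.trans (pow_one c).symm)
    norm_num at this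
  · rw [← pow_succ, ← pow_mod_orderOf c (_ ^ 4 + 1), ← pow_mod_orderOf c (_ ^ 2), hc] at e
    have := pow_injOn_Iio_orderOf (x := c) (by simp [hc]) (by simp [hc]) e
    norm_num at this

/-- No element of order 35 with an automorphism of orders four and six on its two parts. -/
theorem no_thirtyfive [Finite A] (hι : Function.Injective ι) (hG : ∀ x, ι x ∈ chevF4.group K)
    (hQ5 : (Fintype.card K : ZMod 5) = 1) (hQ7 : (Fintype.card K : ZMod 7) = 1) {c a : A}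
    (hc : orderOf c = 35) (hac : a * c * a⁻¹ = c ^ 17) : False := by
  classical
  haveI : Fact (Nat.Prime 5) := ⟨by norm_num⟩
  haveI : Fact (Nat.Prime 7) := ⟨by norm_num⟩
  obtain ⟨c5, hc5⟩ : ∃ c5, c5 = c ^ 7 := ⟨_, rfl⟩
  obtain ⟨c7, hc7⟩ : ∃ c7, c7 = c ^ 5 := ⟨_, rfl⟩
  have ho5 : orderOf c5 = 5 := by rw [hc5, orderOf_pow, hc]; norm_num
  have ho7 : orderOf c7 = 7 := by rw [hc7, orderOf_pow, hc]; norm_num
  have hac5 : a * c5 * a⁻¹ = c5 ^ 17 := by
    rw [hc5, ← conj_pow, hac, ← pow_mul, ← pow_mul, mul_comm]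
  obtain ⟨L5, hL5⟩ : ∃ L, L = (Subgroup.zpowers c5).comap φ := ⟨_, rfl⟩
  obtain ⟨P5⟩ : Nonempty (Sylow 5 L5) := inferInstance
  obtain ⟨Q5, hQ5d⟩ : ∃ Q, Q = (P5 : Subgroup L5).map L5.subtype := ⟨_, rfl⟩
  obtain ⟨L35, hL35⟩ : ∃ L, L = (Subgroup.zpowers c).comap φ := ⟨_, rfl⟩
  have h5le : L5 ≤ L35 := by
    rw [hL5, hL35]
    refine Subgroup.comap_mono (Subgroup.zpowers_le.2 ?_)
    rw [hc5]; exact pow_mem (Subgroup.mem_zpowers c) 7
  have hab : ∀ u ∈ L35, ∀ v ∈ L35, φ u * φ v = φ v * φ u := by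
    intro u hu v hv
    rw [hL35, Subgroup.mem_comap, Subgroup.mem_zpowers_iff] at hu hv
    obtain ⟨i, hi⟩ := hu; obtain ⟨j, hj⟩ := hv
    rw [← hi, ← hj, ← zpow_add, ← zpow_add, add_comm]
  obtain ⟨x, hx⟩ := hφ c
  have hx35 : x ∈ L35 := by rw [hL35, Subgroup.mem_comap, hx]; exact Subgroup.mem_zpowers c
  have hx5 : x ^ 7 ∈ L5 := by
    rw [hL5, Subgroup.mem_comap, map_pow, hx, ← hc5]; exact Subgroup.mem_zpowers c5
  have h5P : c5 ∈ Q5.map φ := by
    have := mem_map_sylow φ (fun u hu v hv => hab u (h5le hu) v (h5le hv)) P5 hx5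
      (by rw [map_pow, hx, ← hc5, ho5])
    rwa [map_pow, hx, ← hc5, ← hQ5d] at this
  -- the element of order seven, corrected to normalize the 5-part
  obtain ⟨N, hN⟩ : ∃ N, N = Subgroup.normalizer (Q5 : Set H) := ⟨_, rfl⟩
  have memN : ∀ z : H, (∀ w ∈ Q5, z * w * z⁻¹ ∈ Q5) → z ∈ N := fun z hz =>
    hN ▸ Subgroup.mem_normalizer_fintype hz
  obtain ⟨l1, hl1, hl1P⟩ := frattini P5 (h := x ^ 5) (hL5 ▸ preimage_normalized φ hφ rfl
    (a := c7) (k := 1) (by rw [pow_one, hc7, hc5]; group) (by rw [map_pow, hx, hc7]))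
  rw [← hQ5d] at hl1P
  obtain ⟨z, hz⟩ : ∃ z, z = (l1 * x ^ 5) ^ 15 := ⟨_, rfl⟩
  have hzN : z ∈ N := hz ▸ pow_mem (memN _ hl1P) 15
  have hzc : φ z = c7 := by
    rw [hL5, Subgroup.mem_comap, Subgroup.mem_zpowers_iff] at hl1
    obtain ⟨j, hj⟩ := hl1
    rw [hz, map_pow, map_mul, map_pow, hx, ← hj, hc5, hc7, ← zpow_natCast c 7, ← zpow_mul,
      ← zpow_natCast c 5, ← zpow_add, ← zpow_natCast, ← zpow_mul, ← zpow_mod_orderOf c,
      ← zpow_mod_orderOf c ((5 : ℕ) : ℤ), hc]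
    congr 1
    push_cast
    omega
  -- the Sylow 7-subgroup inside the normalizer
  obtain ⟨M, hM⟩ : ∃ M, M = L35 ⊓ N := ⟨_, rfl⟩
  obtain ⟨P7⟩ : Nonempty (Sylow 7 M) := inferInstance
  obtain ⟨Q7, hQ7d⟩ : ∃ Q, Q = (P7 : Subgroup M).map M.subtype := ⟨_, rfl⟩
  have hzM : z ∈ M := by
    rw [hM]; refine ⟨?_, hzN⟩
    rw [hL35]
    show φ z ∈ Subgroup.zpowers c
    rw [hzc, hc7]
    exact pow_mem (Subgroup.mem_zpowers c) 5
  have h7P : c7 ∈ Q7.map φ := by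
    have := mem_map_sylow φ (fun u hu v hv => hab u (hM ▸ hu : u ∈ L35 ⊓ N).1 v
      (hM ▸ hv : v ∈ L35 ⊓ N).1) P7 hzM (by rw [hzc, ho7])
    rwa [hzc, ← hQ7d] at this
  -- the normalizing element
  obtain ⟨h, hh⟩ := hφ a
  obtain ⟨l2, hl2, hl2P⟩ := frattini P5 (hL5 ▸ preimage_normalized φ hφ rfl hac5 hh)
  rw [← hQ5d] at hl2P
  obtain ⟨y1, hy1⟩ : ∃ y, y = l2 * h := ⟨_, rfl⟩
  have hy1N : y1 ∈ N := memN _ (hy1 ▸ hl2P)
  obtain ⟨b, hb, hb2⟩ : ∃ j : ℤ, φ y1 = c5 ^ j * a ∧ φ y1 * c * (φ y1)⁻¹ = c ^ 17 := by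
    rw [hL5, Subgroup.mem_comap, Subgroup.mem_zpowers_iff] at hl2
    obtain ⟨j, hj⟩ := hl2
    refine ⟨j, by rw [hy1, map_mul, hh, hj], ?_⟩
    rw [hy1, map_mul, hh, ← hj, show c5 ^ j * a * c * (c5 ^ j * a)⁻¹ =
      c5 ^ j * (a * c * a⁻¹) * (c5 ^ j)⁻¹ by group, hac, hc5]
    group
  have hM' : ∀ w, w ∈ M ↔ y1 * w * y1⁻¹ ∈ M := by
    intro w
    rw [hM, Subgroup.mem_inf, Subgroup.mem_inf, hL35]
    exact and_congr (preimage_normalized φ hφ rfl hb2 rfl w)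
      ⟨fun hw => mul_mem (mul_mem hy1N hw) (inv_mem hy1N), fun hw => by
        have := mul_mem (mul_mem (inv_mem hy1N) hw) hy1N
        simpa [mul_assoc] using this⟩
  obtain ⟨l, hl, hlP⟩ := frattini P7 hM'
  rw [← hQ7d] at hlP
  obtain ⟨y, hy⟩ : ∃ y, y = l * y1 := ⟨_, rfl⟩
  rw [← hy] at hlP
  have hlN : l ∈ N := (hM ▸ hl : l ∈ L35 ⊓ N).2
  have hyQ5 : ∀ w ∈ Q5, y * w * y⁻¹ ∈ Q5 := fun w hw =>
    (Subgroup.mem_normalizer_iff.1 (hN ▸ hy ▸ mul_mem hlN hy1N) w).1 hw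
  have hyc : φ y * c * (φ y)⁻¹ = c ^ 17 := by
    have hl' : l ∈ L35 := (hM ▸ hl : l ∈ L35 ⊓ N).1
    rw [hL35, Subgroup.mem_comap, Subgroup.mem_zpowers_iff] at hl'
    obtain ⟨j, hj⟩ := hl'
    rw [hy, map_mul, ← hj, show c ^ j * φ y1 * c * (c ^ j * φ y1)⁻¹ =
      c ^ j * (φ y1 * c * (φ y1)⁻¹) * (c ^ j)⁻¹ by group, hb2]
    group
  -- into the torus
  obtain ⟨u, hu, -, huP⟩ := exists_conj_torus ι hQ5 (by norm_num) hG (Q := Q5)
    (hQ5d ▸ P5.2.map _) (S := ∅) (by simp) (by simp)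
  obtain ⟨ι1, hι1⟩ : ∃ ι1 : H →* GL chevF4.Idx K, ι1 = (MulAut.conj u).toMonoidHom.comp ι :=
    ⟨_, rfl⟩
  have hinj1 : Function.Injective ι1 := hι1 ▸ (MulAut.conj u).injective.comp hι
  have hG1 : ∀ x, ι1 x ∈ chevF4.group K := fun x => hι1 ▸ conj_mem_group hu (hG x)
  have hT1 : ∀ x ∈ Q5, ι1 x ∈ chevF4.diagonalSubgroup K := fun x hx => hι1 ▸ huP x hx
  have hQ7p : IsPGroup 7 Q7 := hQ7d ▸ P7.2.map _
  have hQ7N : ∀ z ∈ Q7, z ∈ N := by
    rw [hQ7d]
    rintro _ ⟨w, -, rfl⟩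
    exact (hM ▸ w.2 : (w : H) ∈ L35 ⊓ N).2
  -- the 7-part centralizes the 5-part
  have hcomm : ∀ z ∈ Q7, ∀ w ∈ Q5, z * w = w * z := by
    intro z hz w hw
    have hzn : ∀ w ∈ Q5, z * w * z⁻¹ ∈ Q5 := fun w hw =>
      (Subgroup.mem_normalizer_iff.1 (hN ▸ hQ7N z hz) w).1 hw
    have h24 : ∀ w ∈ Q5, z ^ 24 * w * (z ^ 24)⁻¹ = w := by
      have hmem : ∀ j : ℕ, ∀ w ∈ Q5, z ^ j * w * (z ^ j)⁻¹ ∈ Q5 := fun j w hw =>
        (Subgroup.mem_normalizer_iff.1 (hN ▸ pow_mem (hQ7N z hz) j) w).1 hw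
      have twice : ∀ j : ℕ, (∀ w ∈ Q5, z ^ j * w * (z ^ j)⁻¹ = w) → ∀ n : ℕ,
          ∀ w ∈ Q5, z ^ (j * n) * w * (z ^ (j * n))⁻¹ = w := by
        intro j hj n
        induction n with
        | zero => intro w _; simp
        | succ n ih =>
          intro w hw
          rw [Nat.mul_succ, pow_add]
          calc z ^ (j * n) * z ^ j * w * (z ^ (j * n) * z ^ j)⁻¹
              = z ^ (j * n) * (z ^ j * w * (z ^ j)⁻¹) * (z ^ (j * n))⁻¹ := by group
            _ = w := by rw [hj w hw, ih w hw]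
      rcases relations ι1 hinj1 hG1 hT1 hzn with e | e | e
      · exact twice 8 e 3
      · exact twice 6 e 4
      · refine twice 12 (fun w hw => ?_) 2
        have e1 := e w hw
        have e2 := e _ (hmem 2 w hw)
        rw [show z ^ 4 * (z ^ 2 * w * (z ^ 2)⁻¹) * (z ^ 4)⁻¹ = z ^ 6 * w * (z ^ 6)⁻¹ by group,
          show z ^ 2 * (z ^ 2 * w * (z ^ 2)⁻¹) * (z ^ 2)⁻¹ = z ^ 4 * w * (z ^ 4)⁻¹ by group] at e2
        rw [← e1, ← mul_assoc] at e2
        have h6 : z ^ 6 * w * (z ^ 6)⁻¹ = w⁻¹ := by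
          have comm5 : ∀ p ∈ Q5, ∀ p' ∈ Q5, p * p' = p' * p := fun p hp p' hp' => hinj1 (by
            rw [map_mul, map_mul]; exact H_comm hC (hT1 p hp) (hT1 p' hp'))
          rw [mul_assoc _ (z ^ 4 * w * (z ^ 4)⁻¹) w, comm5 _ (hmem 4 w hw) w hw, ← mul_assoc] at e2
          exact eq_inv_of_mul_eq_one_left (mul_eq_right.1 e2)
        calc z ^ 12 * w * (z ^ 12)⁻¹ = z ^ 6 * (z ^ 6 * w * (z ^ 6)⁻¹) * (z ^ 6)⁻¹ := by group
          _ = z ^ 6 * w⁻¹ * (z ^ 6)⁻¹ := by rw [h6]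
          _ = (z ^ 6 * w * (z ^ 6)⁻¹)⁻¹ := by group
          _ = w := by rw [h6, inv_inv]
    obtain ⟨e, he⟩ := hQ7p ⟨z, hz⟩
    have he' : z ^ 7 ^ e = 1 := congrArg Subtype.val he
    have h1 : (z ^ 24) * w = w * z ^ 24 := mul_inv_eq_iff_eq_mul.1 (h24 w hw)
    obtain ⟨j, hj⟩ := exists_pow_eq_self_of_coprime (x := z) (n := 24)
      (Nat.Coprime.coprime_dvd_right (orderOf_dvd_of_pow_eq_one he')
        (Nat.Coprime.pow_right e (by norm_num)))
    have h2 : Commute ((z ^ 24) ^ j) w := Commute.pow_left h1 j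
    rw [hj] at h2
    exact h2
  obtain ⟨v, hv, hvS, hvP⟩ := exists_conj_torus ι1 hQ7 (by norm_num) hG1 (Q := Q7) hQ7p
    (S := ι1 '' (Q5 : Set H)) (by rintro _ ⟨w, hw, rfl⟩; exact hT1 w hw)
    (by rintro z hz _ ⟨w, hw, rfl⟩; rw [← map_mul, ← map_mul, hcomm z hz w hw])
  obtain ⟨P, hP⟩ : ∃ P, P = Q5 ⊔ Q7 := ⟨_, rfl⟩
  have hPT : ∀ w ∈ P, v * ι1 w * v⁻¹ ∈ chevF4.diagonalSubgroup K := by
    have : P ≤ (chevF4.diagonalSubgroup K).comap ((MulAut.conj v).toMonoidHom.comp ι1) := by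
      rw [hP]
      refine sup_le (fun w hw => ?_) fun w hw => hvP w hw
      rw [Subgroup.mem_comap]
      show v * ι1 w * v⁻¹ ∈ chevF4.diagonalSubgroup K
      rw [hvS _ ⟨w, hw, rfl⟩]; exact hT1 w hw
    exact fun w hw => this hw
  have hyP : ∀ w ∈ P, y * w * y⁻¹ ∈ P := by
    have : P ≤ P.comap (MulAut.conj y).toMonoidHom := by
      rw [hP]
      exact sup_le (fun w hw => Subgroup.mem_sup_left (hyQ5 w hw))
        fun w hw => Subgroup.mem_sup_right (hlP w hw)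
    exact fun w hw => this hw
  have hcP : c ∈ P.map φ := by
    have h1 : c5 ∈ P.map φ := Subgroup.map_mono (hP ▸ le_sup_left) h5P
    have h2 : c7 ∈ P.map φ := Subgroup.map_mono (hP ▸ le_sup_right) h7P
    have e : c = c5 ^ 3 * c7 ^ 3 := by
      rw [hc5, hc7, ← pow_mul, ← pow_mul, ← pow_add, ← pow_mod_orderOf, hc, pow_one]
    rw [e]; exact mul_mem (pow_mem h1 3) (pow_mem h2 3)
  have key := relations_image ((MulAut.conj v).toMonoidHom.comp ι1)
    ((MulAut.conj v).injective.comp hinj1) (fun x => conj_mem_group hv (hG1 x)) hPT hyP φ hcP hyc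
  rcases key with e | e | e
  · rw [← pow_mod_orderOf c (_ ^ 8), hc] at e
    have := pow_injOn_Iio_orderOf (x := c) (by simp [hc]) (by simp [hc]) (e.trans (pow_one c).symm)
    norm_num at this
  · rw [← pow_mod_orderOf c (_ ^ 6), hc] at e
    have := pow_injOn_Iio_orderOf (x := c) (by simp [hc]) (by simp [hc]) (e.trans (pow_one c).symm)
    norm_num at this
  · rw [← pow_succ, ← pow_mod_orderOf c (_ ^ 4 + 1), ← pow_mod_orderOf c (_ ^ 2), hc] at e
    have := pow_injOn_Iio_orderOf (x := c) (by simp [hc]) (by simp [hc]) e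
    norm_num at this

omit hφ

/-- An embedding into the group over a larger field. -/
theorem exists_extension {F : Type*} [Field F] (p : ℕ) [Fact p.Prime] [CharP F p] [Fintype F]
    {n : ℕ} (hn : 0 < n) : ∃ (K' : Type) (_ : Field K') (_ : Fintype K') (_ : F →+* K'),
      Fintype.card K' = Fintype.card F ^ n := by
  obtain ⟨f, -, hf⟩ := FiniteField.card F p
  letI : Algebra (ZMod p) F := ZMod.algebra F p
  have hfr : Module.finrank (ZMod p) F = f := by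
    have h := Module.card_eq_pow_finrank (K := ZMod p) (V := F)
    rw [ZMod.card, hf] at h
    exact (Nat.pow_right_injective (Nat.Prime.two_le Fact.out) h).symm
  have hne : (f : ℕ) * n ≠ 0 := Nat.mul_ne_zero f.ne_zero hn.ne'
  haveI : Fintype (GaloisField p (f * n)) := Fintype.ofFinite _
  obtain ⟨e⟩ := FiniteField.nonempty_algHom_of_finrank_dvd (F := ZMod p) (K := F)
    (L := GaloisField p (f * n)) (by rw [hfr, GaloisField.finrank p hne]; exact dvd_mul_right _ _)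
  refine ⟨GaloisField p (f * n), inferInstance, inferInstance, e.toRingHom, ?_⟩
  rw [← Nat.card_eq_fintype_card, GaloisField.card p _ hne, hf, pow_mul]

/-- A prime power cast is one modulo a prime when the exponent is divisible by the prime less one. -/
theorem pow_cast_one {q ℓ n : ℕ} [Fact ℓ.Prime] (h : ¬ ℓ ∣ q) (hn : ℓ - 1 ∣ n) :
    ((q ^ n : ℕ) : ZMod ℓ) = 1 := by
  obtain ⟨k, rfl⟩ := hn
  rw [Nat.cast_pow, pow_mul, ZMod.pow_card_sub_one_eq_one
    (fun e => h ((ZMod.natCast_eq_zero_iff _ _).1 e)), one_pow]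

theorem not_dvd_card {F : Type*} [Field F] [Fintype F] (p : ℕ) [Fact p.Prime] [CharP F p] {ℓ : ℕ}
    (hℓ : ℓ.Prime) (hne : p ≠ ℓ) : ¬ ℓ ∣ Fintype.card F := by
  obtain ⟨f, -, hf⟩ := FiniteField.card F p
  rw [hf]
  exact fun h => hne ((Nat.prime_dvd_prime_iff_eq hℓ Fact.out).1 (hℓ.dvd_of_dvd_pow h)).symm

/-- The bound for the alternating sections. -/
theorem alt_bound {F : Type*} [Field F] [Fintype F] (p : ℕ) [Fact p.Prime] [CharP F p] {r : ℕ}
    (H : Subgroup (chevF4.group F)) (N : Subgroup H) [N.Normal]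
    (h : Nonempty (H ⧸ N ≃* alternatingGroup (Fin r))) : r ≤ 10 + (if p = 11 then 1 else 0) := by
  classical
  haveI : Finite (chevF4.group F) := Finite.of_injective _ Subtype.val_injective
  by_contra hr
  obtain ⟨φe⟩ := h
  obtain ⟨φ, hφ⟩ : ∃ φ : H →* alternatingGroup (Fin r),
      φ = φe.toMonoidHom.comp (QuotientGroup.mk' N) := ⟨_, rfl⟩
  have hsurj : Function.Surjective φ := hφ ▸ φe.surjective.comp (QuotientGroup.mk'_surjective N)
  have emb : ∀ {n : ℕ}, n ≤ r → ∀ (k o : ℕ) (s t : Equiv.Perm (Fin n)), Equiv.Perm.sign s = 1 →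
      Equiv.Perm.sign t = 1 → t * s * t⁻¹ = s ^ k → orderOf s = o →
      ∃ c a : alternatingGroup (Fin r), orderOf c = o ∧ a * c * a⁻¹ = c ^ k := by
    intro n hn k o s t hs ht hst ho
    obtain ⟨f, hf⟩ : ∃ f : Equiv.Perm (Fin n) →* Equiv.Perm (Fin r),
        f = Equiv.Perm.viaEmbeddingHom (Fin.castLEEmb hn) := ⟨_, rfl⟩
    have hsign : ∀ x, Equiv.Perm.sign (f x) = Equiv.Perm.sign x := fun x => by
      rw [hf, Equiv.Perm.viaEmbeddingHom_apply, Equiv.Perm.viaEmbedding,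
        Equiv.Perm.sign_extendDomain]
    have hinj : Function.Injective f := hf ▸ Equiv.Perm.viaEmbeddingHom_injective _
    refine ⟨⟨f s, Equiv.Perm.mem_alternatingGroup.2 ((hsign s).trans hs)⟩,
      ⟨f t, Equiv.Perm.mem_alternatingGroup.2 ((hsign t).trans ht)⟩, ?_, Subtype.ext ?_⟩
    · rw [Subgroup.orderOf_mk, orderOf_injective f hinj, ho]
    · show f t * f s * (f t)⁻¹ = f s ^ k
      rw [← map_inv, ← map_mul, ← map_mul, hst, map_pow]
  by_cases hp : p = 11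
  · rw [if_pos hp] at hr
    obtain ⟨K', _, _, e, hK'⟩ := exists_extension (F := F) p (n := 12) (by norm_num)
    haveI : Fact (Nat.Prime 5) := ⟨by norm_num⟩
    haveI : Fact (Nat.Prime 7) := ⟨by norm_num⟩
    obtain ⟨c, a, hc, hac⟩ := emb (n := 12) (by omega) 17 35
      (c[0, 1, 2, 3, 4] * c[5, 6, 7, 8, 9, 10, 11]) (c[1, 2, 4, 3] * c[6, 8, 7, 11, 9, 10])
      (by decide) (by decide) (by decide) (by
        have h35 : (c[0, 1, 2, 3, 4] * c[5, 6, 7, 8, 9, 10, 11] : Equiv.Perm (Fin 12)) ^ 35 = 1 := by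
          decide
        have h5 : (c[0, 1, 2, 3, 4] * c[5, 6, 7, 8, 9, 10, 11] : Equiv.Perm (Fin 12)) ^ 5 ≠ 1 := by
          decide
        have h7 : (c[0, 1, 2, 3, 4] * c[5, 6, 7, 8, 9, 10, 11] : Equiv.Perm (Fin 12)) ^ 7 ≠ 1 := by
          decide
        have hmem := Nat.mem_divisors.2 ⟨orderOf_dvd_of_pow_eq_one h35, by norm_num⟩
        rw [show Nat.divisors 35 = {1, 5, 7, 35} by decide] at hmem
        simp only [Finset.mem_insert, Finset.mem_singleton] at hmem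
        rcases hmem with e | e | e | e
        · exact absurd (by rw [orderOf_eq_one_iff.1 e, one_pow]) h5
        · exact absurd (e ▸ pow_orderOf_eq_one _) h5
        · exact absurd (e ▸ pow_orderOf_eq_one _) h7
        · exact e)
    exact no_thirtyfive ((FieldAut.mapGL chevF4 e).comp ((chevF4.group F).subtype.comp H.subtype))
      φ hsurj ((FieldFix.mapGL_injective e).comp (Subtype.val_injective.comp Subtype.val_injective))
      (fun x => FieldAut.map_mem_group e x.1.2)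
      (hK' ▸ pow_cast_one (not_dvd_card p (by norm_num) (by omega)) (by norm_num))
      (hK' ▸ pow_cast_one (not_dvd_card p (by norm_num) (by omega)) (by norm_num)) hc hac
  · rw [if_neg hp] at hr
    obtain ⟨K', _, _, e, hK'⟩ := exists_extension (F := F) p (n := 10) (by norm_num)
    haveI : Fact (Nat.Prime 11) := ⟨by norm_num⟩
    obtain ⟨c, a, hc, hac⟩ := emb (n := 11) (by omega) 4 11
      c[0, 1, 2, 3, 4, 5, 6, 7, 8, 9, 10] (c[1, 4, 5, 9, 3] * c[2, 8, 10, 7, 6])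
      (by decide) (by decide) (by decide)
      (orderOf_eq_prime (by decide) (by decide))
    exact no_eleven ((FieldAut.mapGL chevF4 e).comp ((chevF4.group F).subtype.comp H.subtype))
      φ hsurj ((FieldFix.mapGL_injective e).comp (Subtype.val_injective.comp Subtype.val_injective))
      (fun x => FieldAut.map_mem_group e x.1.2)
      (hK' ▸ pow_cast_one (not_dvd_card p (by norm_num) (by omega)) (by norm_num)) hc hac

end Cfsg.Agent.Chevalley.AltSection.F4
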