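import Cfsg.Agent.Lib.Chevalley.AltSection.Groups
import Mathlib.GroupTheory.SpecificGroups.Alternating.Simple
import Mathlib.GroupTheory.Perm.ViaEmbedding
import Mathlib.GroupTheory.SpecificGroups.Cyclic

/-! Groups whose two-subgroups have abelian parts of rank two with elementary quotient. -/

set_option autoImplicit false
set_option linter.unusedSectionVars false
set_option maxRecDepth 100000

namespace Cfsg.Agent.Chevalley.AltSection.TwoStructure

/-- A group of order 32 of permutations of eight points, packed in base eight. -/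
def codes : List ℕ := [16434824, 12304593, 10441368, 4988844, 16433690, 9925825, 6335420, 14569555,
  11789960, 4471285, 858613, 2722748, 14570689, 12305475, 10442250, 343980,
  14054040, 15917265, 6850935, 2206071, 14054922, 2207205, 4987710, 342846,
  6852069, 15918147, 9924691, 11788826, 4472167, 6336302, 2723630, 859495]

/-- An element of the group, by index. -/
def pf (k : ℕ) (i : Fin 8) : Fin 8 := Fin.ofNat 8 (codes.getD k 0 / 8 ^ i.val)

/-- The index of a product. -/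
def prodIdx (j k : ℕ) : ℕ :=
  codes.idxOf ((List.finRange 8).foldr (fun i s => (pf j (pf k i)).val + 8 * s) 0)

theorem mul_tab : ∀ j < 32, ∀ k < 32, prodIdx j k < 32 ∧
    ∀ i, pf (prodIdx j k) i = pf j (pf k i) := by
  decide +kernel

theorem one_tab : ∀ i, pf 0 i = i := by decide +kernel

theorem four_tab : ∀ k < 32, ∀ i, pf k (pf k (pf k (pf k i))) = i := by decide +kernel

theorem gen_tab : (∀ i, pf 1 i = (c[0, 1, 2, 3] * c[5, 7] : Equiv.Perm (Fin 8)) i) ∧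
    (∀ i, pf 2 i = (c[1, 3] * c[4, 5, 6, 7] : Equiv.Perm (Fin 8)) i) ∧
    (∀ i, pf 3 i = (c[0, 4, 1, 5] * c[2, 6, 3, 7] : Equiv.Perm (Fin 8)) i) := by
  decide +kernel

/-- The element with prescribed exponents of the three squares. -/
def sq3 (k : Fin 8) : Equiv.Perm (Fin 8) :=
  (if k.val % 2 = 1 then (c[0, 1, 2, 3] * c[5, 7]) ^ 2 else 1) *
    (if k.val / 2 % 2 = 1 then (c[1, 3] * c[4, 5, 6, 7]) ^ 2 else 1) *
    (if k.val / 4 = 1 then (c[0, 4, 1, 5] * c[2, 6, 3, 7]) ^ 2 else 1)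

theorem sq3_tab : (∀ k l : Fin 8, (∀ i, sq3 k i = sq3 l i) → k = l) ∧
    ∀ k : Fin 8, ∀ i, sq3 k (sq3 k i) = i := by
  decide +kernel

/-- A two-subgroup in which squares generate an elementary subgroup of order eight. -/
theorem exists_witness : ∃ (Z : Subgroup (alternatingGroup (Fin 8)))
    (s : Fin 8 → alternatingGroup (Fin 8)), IsPGroup 2 Z ∧ Function.Injective s ∧
      ∀ k, s k * s k = 1 ∧ ∃ a ∈ Z, ∃ b ∈ Z, ∃ c ∈ Z, s k = a ^ 2 * b ^ 2 * c ^ 2 := by
  classical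
  obtain ⟨X, hX⟩ : ∃ X : Set (alternatingGroup (Fin 8)),
      X = {g : alternatingGroup (Fin 8) | ∃ k < 32, ∀ i, (g : Equiv.Perm (Fin 8)) i = pf k i} := ⟨_, rfl⟩
  have hone : (1 : alternatingGroup (Fin 8)) ∈ X :=
    hX ▸ ⟨0, by norm_num, fun i => (one_tab i).symm⟩
  have hmul : ∀ a ∈ X, ∀ b ∈ X, a * b ∈ X := by
    rw [hX]
    rintro a ⟨j, hj, ha⟩ b ⟨k, hk, hb⟩
    obtain ⟨h1, h2⟩ := mul_tab j hj k hk
    exact ⟨_, h1, fun i => by rw [h2, ← hb, ← ha]; rfl⟩
  have hpow : ∀ a ∈ X, a ^ 4 = 1 := by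
    rw [hX]
    rintro a ⟨k, hk, ha⟩
    refine Subtype.ext (Equiv.ext fun i => ?_)
    rw [Subgroup.coe_pow, Subgroup.coe_one, Equiv.Perm.one_apply,
      show (4 : ℕ) = 1 + 1 + 1 + 1 from rfl, pow_add, pow_add, pow_add, pow_one]
    simp only [Equiv.Perm.mul_apply, ha, four_tab k hk]
  have hinv : ∀ a ∈ X, a⁻¹ ∈ X := fun a ha => by
    rw [inv_eq_of_mul_eq_one_right (show a * (a * (a * a)) = 1 by
      rw [← hpow a ha]; simp only [pow_succ, pow_zero, one_mul, mul_assoc])]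
    exact hmul _ ha _ (hmul _ ha _ ha)
  obtain ⟨g1, g2, g3⟩ := gen_tab
  obtain ⟨a, ha⟩ : ∃ a : alternatingGroup (Fin 8), (a : Equiv.Perm (Fin 8)) = c[0, 1, 2, 3] * c[5, 7] :=
    ⟨⟨c[0, 1, 2, 3] * c[5, 7], Equiv.Perm.mem_alternatingGroup.2 (by decide)⟩, rfl⟩
  obtain ⟨b, hb⟩ : ∃ b : alternatingGroup (Fin 8), (b : Equiv.Perm (Fin 8)) = c[1, 3] * c[4, 5, 6, 7] :=
    ⟨⟨c[1, 3] * c[4, 5, 6, 7], Equiv.Perm.mem_alternatingGroup.2 (by decide)⟩, rfl⟩
  obtain ⟨c, hc⟩ : ∃ c : alternatingGroup (Fin 8),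
      (c : Equiv.Perm (Fin 8)) = c[0, 4, 1, 5] * c[2, 6, 3, 7] :=
    ⟨⟨c[0, 4, 1, 5] * c[2, 6, 3, 7], Equiv.Perm.mem_alternatingGroup.2 (by decide)⟩, rfl⟩
  have haX : a ∈ X := hX ▸ ⟨1, by norm_num, fun i => by rw [ha, g1]⟩
  have hbX : b ∈ X := hX ▸ ⟨2, by norm_num, fun i => by rw [hb, g2]⟩
  have hcX : c ∈ X := hX ▸ ⟨3, by norm_num, fun i => by rw [hc, g3]⟩
  obtain ⟨s, hs⟩ : ∃ s : Fin 8 → alternatingGroup (Fin 8), s = fun k : Fin 8 =>
      (if k.val % 2 = 1 then a else 1) ^ 2 * (if k.val / 2 % 2 = 1 then b else 1) ^ 2 *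
        (if k.val / 4 = 1 then c else 1) ^ 2 := ⟨_, rfl⟩
  have hval : ∀ k, (s k : Equiv.Perm (Fin 8)) = sq3 k := fun k => by
    rw [hs, sq3]
    simp only [Subgroup.coe_mul, Subgroup.coe_pow, apply_ite Subtype.val, Subgroup.coe_one, ha, hb,
      hc, ite_pow, one_pow]
  refine ⟨{ carrier := X, mul_mem' := fun h h' => hmul _ h _ h', one_mem' := hone,
            inv_mem' := fun h => hinv _ h }, s, fun x => ⟨2, Subtype.ext (hpow _ x.2)⟩,
    fun k l e => sq3_tab.1 k l fun i => by rw [← hval, ← hval, e], fun k => ⟨?_, ?_⟩⟩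
  · refine Subtype.ext (Equiv.ext fun i => ?_)
    rw [Subgroup.coe_mul, hval, Equiv.Perm.mul_apply, sq3_tab.2]; rfl
  · refine ⟨_, ?_, _, ?_, _, ?_, by rw [hs]⟩
    all_goals split_ifs <;> assumption

theorem index_range_eq {C : Type*} [CommGroup C] [Finite C] (g : C →* C) :
    g.range.index = Nat.card g.ker := by
  have h1 := Subgroup.card_mul_index g.ker
  rw [Subgroup.index_ker, ← Subgroup.card_mul_index g.range, mul_comm] at h1
  exact (Nat.eq_of_mul_eq_mul_left Nat.card_pos h1).symm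

/-- The number of involutions does not grow in quotients of abelian groups. -/
theorem card_sq_ker_le {A B : Type*} [CommGroup A] [CommGroup B] [Finite A] [Finite B] (f : A →* B)
    (hf : Function.Surjective f) :
    Nat.card (powMonoidHom 2 : B →* B).ker ≤ Nat.card (powMonoidHom 2 : A →* A).ker := by
  rw [← index_range_eq, ← index_range_eq]
  refine le_trans (Nat.le_of_dvd (Nat.pos_of_ne_zero Subgroup.index_ne_zero_of_finite)
    (Subgroup.index_dvd_of_le ?_))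
    (Nat.le_of_dvd (Nat.pos_of_ne_zero Subgroup.index_ne_zero_of_finite)
      ((powMonoidHom 2 : A →* A).range.index_map_dvd (f := f) hf))
  rintro _ ⟨_, ⟨a, rfl⟩, rfl⟩
  exact ⟨f a, (map_pow f a 2).symm⟩

variable {G : Type*} [Group G] [Finite G]

/-- No section isomorphic to the alternating group of degree eight. -/
theorem no_eight {H : Type*} [Group H] {ι : H →* G} (hι : Function.Injective ι)
    {ψ : H →* alternatingGroup (Fin 8)} (hψ : Function.Surjective ψ) {N T : Subgroup G}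
    (hN : ¬ 2 ∣ N.index) (hcomm : ∀ x ∈ T, ∀ y ∈ T, x * y = y * x)
    (hsq : ∀ x ∈ N, ∀ k, x ^ 2 ^ k = 1 → x ^ 2 ∈ T)
    (h4 : Nat.card {x : G // x ∈ T ∧ x * x = 1} ≤ 4) : False := by
  classical
  haveI : Fact (Nat.Prime 2) := ⟨Nat.prime_two⟩
  haveI : Finite H := Finite.of_injective ι hι
  obtain ⟨Z, s, hZ, hs, hsk⟩ := exists_witness
  obtain ⟨P⟩ : Nonempty (Sylow 2 (Z.comap ψ)) := inferInstance
  obtain ⟨R, hR⟩ : ∃ R, R = (P : Subgroup (Z.comap ψ)).map (Z.comap ψ).subtype := ⟨_, rfl⟩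
  have hRp : IsPGroup 2 R := hR ▸ P.2.map _
  have hZR : ∀ z ∈ Z, ∃ x ∈ R, ψ x = z := by
    obtain ⟨f, hf⟩ : ∃ f : Z.comap ψ →* Z,
        f = (ψ.comp (Z.comap ψ).subtype).codRestrict Z fun x => x.2 := ⟨_, rfl⟩
    have hfs : Function.Surjective f := fun z => by
      obtain ⟨x, hx⟩ := hψ z.1
      exact ⟨⟨x, Subgroup.mem_comap.2 (hx ▸ z.2)⟩, by rw [hf]; exact Subtype.ext hx⟩
    have htop : (P : Subgroup (Z.comap ψ)).map f = ⊤ :=
      ((P.mapSurjective hfs).3 (hZ.of_equiv Subgroup.topEquiv.symm) le_top).symm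
    intro z hz
    obtain ⟨y, hy, hyz⟩ := (htop ▸ Subgroup.mem_top (⟨z, hz⟩ : Z) :
      (⟨z, hz⟩ : Z) ∈ (P : Subgroup (Z.comap ψ)).map f)
    exact ⟨y, hR ▸ ⟨y, hy, rfl⟩, by rw [hf] at hyz; exact congrArg Subtype.val hyz⟩
  obtain ⟨u, -, hu⟩ := conj_into hN (C := ⊤) le_top le_top (hRp.map ι)
  obtain ⟨ι', hι'⟩ : ∃ ι' : H →* G, ι' = (MulAut.conj u).toMonoidHom.comp ι := ⟨_, rfl⟩
  have hinj : Function.Injective ι' := hι' ▸ (MulAut.conj u).injective.comp hι
  obtain ⟨A, hA⟩ : ∃ A, A = R ⊓ T.comap ι' := ⟨_, rfl⟩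
  have hAc : IsMulCommutative A := ⟨⟨fun x y => Subtype.ext (hinj (by
    have hx := x.2; have hy := y.2
    simp only [hA, Subgroup.mem_inf, Subgroup.mem_comap] at hx hy
    simp only [Subgroup.coe_mul, map_mul]
    exact hcomm _ hx.2 _ hy.2))⟩⟩
  have hsqA : ∀ x ∈ R, x ^ 2 ∈ A := by
    intro x hx
    rw [hA]
    refine Subgroup.mem_inf.2 ⟨pow_mem hx 2, Subgroup.mem_comap.2 ?_⟩
    obtain ⟨k, hk⟩ := hRp ⟨x, hx⟩
    rw [map_pow]
    refine hsq _ ?_ k ?_
    · exact hι' ▸ hu _ ⟨x, hx, rfl⟩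
    · rw [← map_pow, show x ^ 2 ^ k = 1 from congrArg Subtype.val hk, map_one]
  obtain ⟨f, hf⟩ : ∃ f : A →* (ψ.comp A.subtype).range, f = (ψ.comp A.subtype).rangeRestrict :=
    ⟨_, rfl⟩
  letI cA : CommGroup A := { (inferInstance : Group A) with mul_comm := hAc.1.1 }
  letI cB : CommGroup (ψ.comp A.subtype).range :=
    { (inferInstance : Group (ψ.comp A.subtype).range) with
      mul_comm := fun x y => by
        obtain ⟨a, rfl⟩ := (ψ.comp A.subtype).rangeRestrict_surjective x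
        obtain ⟨b, rfl⟩ := (ψ.comp A.subtype).rangeRestrict_surjective y
        rw [← map_mul, ← map_mul, hAc.1.1] }
  have hle := card_sq_ker_le f (hf ▸ (ψ.comp A.subtype).rangeRestrict_surjective)
  have hk4 : Nat.card (powMonoidHom 2 : A →* A).ker ≤ 4 := by
    refine le_trans (Nat.card_le_card_of_injective
      (fun a => (⟨ι' ((a : A) : H), ?_, ?_⟩ : {x : G // x ∈ T ∧ x * x = 1})) ?_) h4
    · have h := a.1.2
      simp only [hA, Subgroup.mem_inf, Subgroup.mem_comap] at h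
      exact h.2
    · have h := a.2
      rw [MonoidHom.mem_ker, powMonoidHom_apply, pow_two] at h
      have h' : ((a : A) : H) * ((a : A) : H) = 1 := congrArg Subtype.val h
      rw [← map_mul, h', map_one]
    · intro a b e
      exact Subtype.ext (Subtype.ext (hinj (congrArg Subtype.val e)))
  have h8 : ∀ k, ∃ y : (powMonoidHom 2 : (ψ.comp A.subtype).range →* _).ker,
      (((y : (ψ.comp A.subtype).range)) : alternatingGroup (Fin 8)) = s k := by
    intro k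
    obtain ⟨hs2, a, ha, b, hb, c, hc, e⟩ := hsk k
    obtain ⟨x1, hx1, rfl⟩ := hZR a ha
    obtain ⟨x2, hx2, rfl⟩ := hZR b hb
    obtain ⟨x3, hx3, rfl⟩ := hZR c hc
    have hmem : s k ∈ (ψ.comp A.subtype).range :=
      ⟨⟨_, mul_mem (mul_mem (hsqA _ hx1) (hsqA _ hx2)) (hsqA _ hx3)⟩, by simp [e]⟩
    refine ⟨⟨⟨s k, hmem⟩, ?_⟩, rfl⟩
    rw [MonoidHom.mem_ker, powMonoidHom_apply, pow_two]
    exact Subtype.ext hs2
  choose y hy using h8
  have := Nat.card_le_card_of_injective y fun k l e => hs (by rw [← hy k, ← hy l, e])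
  rw [Nat.card_fin] at this
  omega

/-- The bound on the degree. -/
theorem alt_bound {r : ℕ} {H : Type*} [Group H] {ι : H →* G} (hι : Function.Injective ι)
    {φ : H →* alternatingGroup (Fin r)} (hφ : Function.Surjective φ) {N T : Subgroup G}
    (hN : ¬ 2 ∣ N.index) (hcomm : ∀ x ∈ T, ∀ y ∈ T, x * y = y * x)
    (hsq : ∀ x ∈ N, ∀ k, x ^ 2 ^ k = 1 → x ^ 2 ∈ T)
    (h4 : Nat.card {x : G // x ∈ T ∧ x * x = 1} ≤ 4) : r ≤ 7 := by
  classical
  by_contra hr
  obtain ⟨f, hf⟩ : ∃ f : Equiv.Perm (Fin 8) →* Equiv.Perm (Fin r),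
      f = Equiv.Perm.viaEmbeddingHom (Fin.castLEEmb (by omega)) := ⟨_, rfl⟩
  obtain ⟨j, hj⟩ : ∃ j : alternatingGroup (Fin 8) →* alternatingGroup (Fin r),
      j = (f.comp (alternatingGroup (Fin 8)).subtype).codRestrict _ (fun x => by
        rw [Equiv.Perm.mem_alternatingGroup, hf]
        show Equiv.Perm.sign (Equiv.Perm.viaEmbeddingHom _ (x : Equiv.Perm (Fin 8))) = 1
        rw [Equiv.Perm.viaEmbeddingHom_apply, Equiv.Perm.viaEmbedding,
          Equiv.Perm.sign_extendDomain]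
        exact Equiv.Perm.mem_alternatingGroup.1 x.2) := ⟨_, rfl⟩
  have hjinj : Function.Injective j := fun x y e => by
    rw [hj] at e
    exact Subtype.ext ((hf ▸ Equiv.Perm.viaEmbeddingHom_injective _ : Function.Injective f)
      (congrArg Subtype.val e))
  obtain ⟨H1, hH1⟩ : ∃ H1, H1 = j.range.comap φ := ⟨_, rfl⟩
  have hmem : ∀ x : H1, φ x ∈ j.range := fun x =>
    Subgroup.mem_comap.1 (show (x : H) ∈ j.range.comap φ from hH1 ▸ x.2)
  obtain ⟨ψ, hψ⟩ : ∃ ψ : H1 →* alternatingGroup (Fin 8), ψ =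
      (MonoidHom.ofInjective hjinj).symm.toMonoidHom.comp
        ((φ.comp H1.subtype).codRestrict j.range hmem) := ⟨_, rfl⟩
  refine no_eight (ι := ι.comp H1.subtype) (hι.comp Subtype.val_injective) (ψ := ψ) ?_ hN hcomm
    hsq h4
  rw [hψ]
  refine (MonoidHom.ofInjective hjinj).symm.surjective.comp fun b => ?_
  obtain ⟨x, hx⟩ := hφ b.1
  exact ⟨⟨x, by rw [hH1, Subgroup.mem_comap, hx]; exact b.2⟩, Subtype.ext hx⟩

end Cfsg.Agent.Chevalley.AltSection.TwoStructure
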