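import Cfsg.Agent.Lib.Chevalley.AltSection.Torus
import Cfsg.Agent.Lib.Chevalley.Count

/-! Consequences of relations between Weyl words for elements acting on parts of the torus. -/

set_option autoImplicit false
set_option linter.unusedSectionVars false

namespace Cfsg.Agent.Chevalley.AltSection.WordAct

open Cfsg.Lie Cfsg.Agent.Chevalley Cfsg.Agent.Chevalley.Table Cfsg.Agent.Chevalley.Cert
  Cfsg.Agent.Chevalley.Group Cfsg.Agent.Chevalley.Unip Cfsg.Agent.Chevalley.Borel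
  Cfsg.Agent.Chevalley.Weyl Cfsg.Agent.Chevalley.Bruhat Cfsg.Agent.Chevalley.NormalForm Cfsg.Agent.Chevalley.Count

variable {D : ChevalleyDatum} {F : Type*} [Field F] {T : Tab} (hC : Certified D T)
include hC

/-- The word of a conjugation acting on a part of the torus. -/
def Acts (g : GL D.Idx F) (S : Set (GL D.Idx F)) (L : List ℕ) : Prop :=
  ∀ k : ℕ, ∀ x ∈ S, g ^ k * x * (g ^ k)⁻¹ ∈ S ∧
    ∀ d d' : ℕ → Fˣ, x = tor D d → g ^ k * x * (g ^ k)⁻¹ = tor D d' → ∀ r < D.nroots,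
      torChar D d' (wL D (List.replicate k L).flatten r) = torChar D d r

/-- The normal form of an element with the word of its action. -/
theorem exists_acts {g : GL D.Idx F} (hg : g ∈ D.group F) {S : Set (GL D.Idx F)}
    (hS : ∀ x ∈ S, x ∈ D.diagonalSubgroup F) (hgS : ∀ x ∈ S, g * x * g⁻¹ ∈ S) :
    ∃ v ∈ D.posUnipotent F, ∃ (c : ℕ → Fˣ) (L : List ℕ), (∀ i ∈ L, i < D.rank) ∧
      ∃ u ∈ Uminus D F (tor D c * nL hC F L), g = v * (tor D c * nL hC F L) * u ∧ Acts g S L := by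
  obtain ⟨b, hb, n, hn, u, hu, rfl⟩ := exists_form hC hg
  obtain ⟨v, hv, t, ht, rfl⟩ := (mem_B_iff hC).1 hb
  obtain ⟨m, hm⟩ : ∃ m, m = t * n := ⟨_, rfl⟩
  have hmN : m ∈ D.monomialSubgroup F := hm ▸ mul_mem (Subgroup.mem_sup_left ht) hn
  have hum : u ∈ Uminus D F m := by
    refine Subgroup.closure_mono ?_ hu
    rintro x ⟨r, s, hr, hmap, hx⟩
    refine ⟨r, s, hr, ?_, hx⟩
    rintro _ ⟨y, hy, rfl⟩
    have h3 := hmap ⟨y, hy, rfl⟩
    show m * y * m⁻¹ ∈ D.negUnipotent F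
    have h4 := (Subgroup.mem_normalizer_iff.1 (H_normalizes_V hC ht) _).1 h3
    simpa [hm, mul_assoc] using h4
  have hgm : v * t * n * u = v * m * u := by rw [hm]; group
  rw [hgm] at hgS ⊢
  obtain ⟨c, L, hL, hmL⟩ := (mem_N_iff hC).1 hmN
  refine ⟨v, hv, c, L, hL, u, hmL ▸ hum, by rw [hmL], fun k => ?_⟩
  induction k with
  | zero =>
    intro x hx
    refine ⟨by simpa using hx, fun d d' h h' r hr => ?_⟩
    rw [pow_zero, one_mul, inv_one, mul_one, h] at h'
    exact torChar_eq hC h'.symm hr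
  | succ k ih =>
    intro x hx
    obtain ⟨h1, h2⟩ := ih x hx
    have h3 := hgS _ h1
    have e : (v * m * u) ^ (k + 1) * x * ((v * m * u) ^ (k + 1))⁻¹ =
        v * m * u * ((v * m * u) ^ k * x * ((v * m * u) ^ k)⁻¹) * (v * m * u)⁻¹ := by
      simp only [pow_succ', mul_inv_rev, mul_assoc]
    refine ⟨e ▸ h3, fun d d' h h' r hr => ?_⟩
    obtain ⟨d1, hd1⟩ := (mem_H_iff hC).1 (hS _ h1)
    have h4 := Twist.F4Alt.conj_form hC hv hmN hum (hS _ h1) (hS _ h3) rfl
    rw [← e, h', hd1, hmL] at h4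
    rw [List.replicate_succ, List.flatten_cons, wL_append,
      char_conj hC hL h4 (wL_lt hC (rep_lt hC hL k) hr), h2 d d1 h hd1 r hr]

variable {g : GL D.Idx F} {S : Set (GL D.Idx F)} (hS : ∀ x ∈ S, x ∈ D.diagonalSubgroup F)
  {L : List ℕ} (hL : ∀ i ∈ L, i < D.rank) (hA : Acts g S L)
include hS hA

/-- A word of square one fixes by its square. -/
theorem sq_fix (h : ∀ r < D.nroots, wL D (List.replicate 2 L).flatten r = r) :
    ∀ x ∈ S, g ^ 2 * x * (g ^ 2)⁻¹ = x := fun x hx =>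
  pow_fix hC (hS x hx) (hS _ (hA 2 x hx).1) (hA 2 x hx).2 h

include hL

/-- A quadratic relation. -/
theorem rel_apply_char {a : ℤ} (h : ∀ x ∈ S, ∀ d : ℕ → Fˣ, x = tor D d → ∀ r < D.nroots,
    torChar D d r * torChar D d (wL D L r) ^ a *
      torChar D d (wL D (List.replicate 2 L).flatten r) = 1) :
    ∀ x ∈ S, g ^ 2 * x * (g ^ 2)⁻¹ * (g * x * g⁻¹) ^ a * x = 1 := by
  intro x hx
  obtain ⟨h2, e2⟩ := hA 2 x hx
  obtain ⟨h1, e1⟩ := hA 1 x hx
  rw [pow_one] at h1 e1
  obtain ⟨d, hd⟩ := (mem_H_iff hC).1 (hS x hx)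
  obtain ⟨d1, hd1⟩ := (mem_H_iff hC).1 (hS _ h1)
  obtain ⟨d2, hd2⟩ := (mem_H_iff hC).1 (hS _ h2)
  have hpow : ∀ n : ℕ, tor D d1 ^ n = tor D (d1 ^ n) := fun n => by
    clear h
    induction n with
    | zero => rw [pow_zero, pow_zero, tor_one]
    | succ n ih => rw [pow_succ, ih, tor_mul, pow_succ]
  have hz : tor D d1 ^ a = tor D (d1 ^ a) := by
    cases a with
    | ofNat n => rw [Int.ofNat_eq_natCast, zpow_natCast, zpow_natCast, hpow]
    | negSucc n => rw [zpow_negSucc, zpow_negSucc, hpow, tor_inv]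
  rw [hd2, hd1, hd, hz, tor_mul, tor_mul, ← tor_one (D := D)]
  refine dg_congr fun s hs => ?_
  have hl := rep_lt hC hL
  obtain ⟨r, hr, hrs⟩ : ∃ r < D.nroots, wL D (List.replicate 2 L).flatten r = s := by
    have hlr : ∀ i ∈ (List.replicate 2 L).flatten.reverse, i < D.rank := fun i hi =>
      hl 2 i (List.mem_reverse.1 hi)
    refine ⟨_, wL_lt hC hlr hs, ?_⟩
    have e := wL_reverse hC hlr hs
    rwa [List.reverse_reverse] at e
  subst hrs
  have a2 := e2 d d2 hd hd2 r hr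
  have a1 := e1 d d1 hd hd1 _ (wL_lt hC hL hr)
  rw [← wL_append, show (List.replicate 1 L).flatten ++ L = (List.replicate 2 L).flatten by
    simp [List.replicate]] at a1
  have hmul : torChar D (d2 * d1 ^ a * d) (wL D (List.replicate 2 L).flatten r) =
      torChar D d2 (wL D (List.replicate 2 L).flatten r) *
        torChar D d1 (wL D (List.replicate 2 L).flatten r) ^ a *
        torChar D d (wL D (List.replicate 2 L).flatten r) := by
    simp only [torChar, Pi.mul_apply, Pi.pow_apply, mul_zpow, Finset.prod_mul_distrib,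
      ← Finset.prod_zpow, ← zpow_mul, mul_comm a]
  rw [show torChar D (1 : ℕ → Fˣ) (wL D (List.replicate 2 L).flatten r) = 1 by simp [torChar]]
  rw [hmul, a2, a1]
  exact h x hx d hd r hr

/-- A quadratic relation between the exponents. -/
theorem rel_apply {a : ℤ} (h : ∀ r < D.nroots, ∀ i < D.rank,
    D.cartan i (wL D (List.replicate 2 L).flatten r) + a * D.cartan i (wL D L r) +
      1 * D.cartan i r = 0) :
    ∀ x ∈ S, g ^ 2 * x * (g ^ 2)⁻¹ * (g * x * g⁻¹) ^ a * x = 1 := by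
  refine rel_apply_char hC hS hL hA fun x _ d _ r hr => ?_
  rw [torChar, torChar, torChar, ← Finset.prod_zpow, ← Finset.prod_mul_distrib,
    ← Finset.prod_mul_distrib]
  refine Finset.prod_eq_one fun i hi => ?_
  rw [← zpow_mul, ← zpow_add, ← zpow_add]
  have := h r hr i (Finset.mem_range.1 hi)
  rw [show D.cartan i r + D.cartan i (wL D L r) * a +
    D.cartan i (wL D (List.replicate 2 L).flatten r) = 0 by linarith, zpow_zero]

omit hL hA

/-- A centralizing element with a word acting as minus one fixes only involutions. -/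
theorem neg_fixed {z : GL D.Idx F} {M : List ℕ} (hB : Acts z S M) (hM : ∀ i ∈ M, i < D.rank)
    (h : ∀ r < D.nroots, ∀ i < D.rank, D.cartan i (wL D M r) + D.cartan i r = 0)
    {x : GL D.Idx F} (hx : x ∈ S) (hz : z * x * z⁻¹ = x) : x ^ 2 = 1 := by
  obtain ⟨-, e1⟩ := hB 1 x hx
  rw [pow_one, hz] at e1
  obtain ⟨d, hd⟩ := (mem_H_iff hC).1 (hS x hx)
  rw [hd, pow_two, tor_mul, ← tor_one (D := D)]
  refine dg_congr fun s hs => ?_
  have a1 := e1 d d hd hd s hs
  rw [show (List.replicate 1 M).flatten = M by simp] at a1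
  have hneg : torChar D d (wL D M s) = (torChar D d s)⁻¹ := by
    rw [torChar, torChar, ← Finset.prod_inv_distrib]
    refine Finset.prod_congr rfl fun i hi => ?_
    rw [show D.cartan i (wL D M s) = -D.cartan i s by
      have := h s hs i (Finset.mem_range.1 hi); omega, zpow_neg]
  have hsq : torChar D d s * torChar D d s = 1 := by
    nth_rewrite 2 [← a1]; rw [hneg, mul_inv_cancel]
  simp only [torChar, Pi.mul_apply, mul_zpow, Finset.prod_mul_distrib, Pi.one_apply, one_zpow,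
    Finset.prod_const_one] at hsq ⊢
  exact hsq

/-- A centralizing element whose word carries a rotation to its square. -/
theorem swap_fixed (hL : ∀ i ∈ L, i < D.rank) (hA : Acts g S L) {z : GL D.Idx F} {M : List ℕ}
    (hB : Acts z S M) (hM : ∀ i ∈ M, i < D.rank)
    (h : ∀ r < D.nroots, wL D (M ++ L ++ M) r = wL D (List.replicate 2 L).flatten r)
    (hz : ∀ x ∈ S, z * x * z⁻¹ = x) : ∀ x ∈ S, g ^ 2 * x * (g ^ 2)⁻¹ = g * x * g⁻¹ := by
  intro x hx
  obtain ⟨h2, e2⟩ := hA 2 x hx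
  obtain ⟨h1, e1⟩ := hA 1 x hx
  rw [pow_one] at h1 e1
  obtain ⟨d, hd⟩ := (mem_H_iff hC).1 (hS x hx)
  obtain ⟨d1, hd1⟩ := (mem_H_iff hC).1 (hS _ h1)
  obtain ⟨d2, hd2⟩ := (mem_H_iff hC).1 (hS _ h2)
  obtain ⟨-, b0⟩ := hB 1 x hx
  obtain ⟨-, b1⟩ := hB 1 _ h1
  rw [pow_one, hz x hx] at b0
  rw [pow_one, hz _ h1] at b1
  simp only [List.replicate_one, List.flatten_cons, List.flatten_nil, List.append_nil] at b0 b1 e1
  rw [hd2, hd1]
  refine dg_congr fun s hs => ?_
  have hl := rep_lt hC hL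
  obtain ⟨r, hr, hrs⟩ : ∃ r < D.nroots, wL D (List.replicate 2 L).flatten r = s := by
    have hlr : ∀ i ∈ (List.replicate 2 L).flatten.reverse, i < D.rank := fun i hi =>
      hl 2 i (List.mem_reverse.1 hi)
    refine ⟨_, wL_lt hC hlr hs, ?_⟩
    have e := wL_reverse hC hlr hs
    rwa [List.reverse_reverse] at e
  subst hrs
  rw [e2 d d2 hd hd2 r hr, ← h r hr, wL_append, wL_append,
    b1 d1 d1 hd1 hd1 _ (wL_lt hC hL (wL_lt hC hM hr)), e1 d d1 hd hd1 _ (wL_lt hC hM hr),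
    b0 d d hd hd r hr]

omit hS

/-- A monomial part with trivial word leaves an element of the Borel subgroup. -/
theorem mem_B_of_word {v u : GL D.Idx F} (hv : v ∈ D.posUnipotent F) {c : ℕ → Fˣ} {M : List ℕ}
    (hM : ∀ i ∈ M, i < D.rank) (hu : u ∈ Uminus D F (tor D c * nL hC F M))
    (h : ∀ r < D.nroots, wL D M r = r) :
    ∃ t ∈ D.diagonalSubgroup F, v * (tor D c * nL hC F M) * u = v * t := by
  obtain ⟨d, hd⟩ := exists_tor_of_pos (F := F) hC hM fun i hi => by
    rw [h _ (hC.simple_lt hi)]; exact hC.phi_simple hi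
  refine ⟨tor D c * nL hC F M, ?_, ?_⟩
  · rw [hd]; exact mul_mem (tor_mem_H hC c) (tor_mem_H hC d)
  · have hu1 : u = 1 := by
      rw [Uminus_eq hC hM c, show {g : GL D.Idx F | ∃ (r : ℕ) (t : F),
        r ∈ invList D T M ∧ g = xg hC r t} = ∅ from Set.eq_empty_of_forall_notMem fun g hg => by
          obtain ⟨r, t, hr, -⟩ := hg
          obtain ⟨h1, h2, h3⟩ := (mem_invList hC).1 hr
          rw [h r h1] at h3
          omega, Subgroup.closure_empty] at hu
      exact hu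
    rw [hu1, mul_one]

/-- An involution of the Borel subgroup centralizing a part of the torus is moved into the torus by
the centralizer of that part, in odd characteristic. -/
theorem invol_to_torus [Finite F] (hodd : ¬ 2 ∣ Nat.card F) {v t : GL D.Idx F}
    (hv : v ∈ D.posUnipotent F) (ht : t ∈ D.diagonalSubgroup F) (h2 : v * t * (v * t) = 1)
    (hS : ∀ x ∈ S, x ∈ D.diagonalSubgroup F) (hz : ∀ x ∈ S, v * t * x = x * (v * t)) :
    ∃ w ∈ Subgroup.zpowers v, (∀ x ∈ S, w * x * w⁻¹ = x) ∧ w * (v * t) * w⁻¹ = t := by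
  have hvc : ∀ x ∈ S, Commute v x := fun x hx => by
    have e := hz x hx
    rw [mul_assoc, H_comm hC ht (hS x hx), ← mul_assoc, ← mul_assoc] at e
    exact mul_right_cancel e
  have hinv : t * v * t⁻¹ = v⁻¹ := by
    have hconj : t * v * t⁻¹ ∈ D.posUnipotent F :=
      (Subgroup.mem_normalizer_iff.1 (H_normalizes_U hC ht) v).1 hv
    have ht2 : t * t = (t * v * t⁻¹)⁻¹ * v⁻¹ := by
      calc t * t = (t * v * t⁻¹)⁻¹ * v⁻¹ * (v * t * (v * t)) := by group
        _ = _ := by rw [h2, mul_one]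
    have hmem : t * t ∈ D.posUnipotent F ⊓ D.diagonalSubgroup F :=
      Subgroup.mem_inf.2 ⟨ht2 ▸ mul_mem (inv_mem hconj) (inv_mem hv), mul_mem ht ht⟩
    rw [U_inf_H hC, Subgroup.mem_bot] at hmem
    calc t * v * t⁻¹ = v⁻¹ * (v * t * (v * t)) * (t * t)⁻¹ := by group
      _ = v⁻¹ := by rw [h2, hmem, inv_one, mul_one, mul_one]
  haveI : Finite (D.posUnipotent F) := Finite.of_injective _ Subtype.val_injective
  have hord : Nat.Coprime (orderOf v) 2 := by
    have h1 : orderOf (⟨v, hv⟩ : D.posUnipotent F) ∣ Nat.card (D.posUnipotent F) :=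
      orderOf_dvd_natCard _
    rw [Subgroup.orderOf_mk, card_U hC] at h1
    exact Nat.Coprime.coprime_dvd_left h1
      (Nat.Coprime.pow_left _ (Nat.prime_two.coprime_iff_not_dvd.2 hodd).symm)
  obtain ⟨j, hj⟩ := exists_pow_eq_self_of_coprime (x := v) hord.symm
  rw [← pow_mul] at hj
  obtain ⟨w, hw⟩ : ∃ w, w = v ^ j := ⟨_, rfl⟩
  have hw2 : w * w = v := by rw [hw, ← pow_add, ← two_mul, hj]
  have htw : t * w * t⁻¹ = w⁻¹ := by rw [hw, ← conj_pow, hinv, inv_pow]
  refine ⟨w⁻¹, inv_mem (hw ▸ Subgroup.pow_mem _ (Subgroup.mem_zpowers v) j), fun x hx => ?_, ?_⟩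
  · have := ((hvc x hx).pow_left j).inv_left
    rw [← hw] at this
    rw [this.eq, mul_inv_cancel_right]
  · calc w⁻¹ * (v * t) * w⁻¹⁻¹ = w⁻¹ * (w * w * t) * w := by rw [hw2, inv_inv]
      _ = w * (t * w * t⁻¹) * t := by group
      _ = t := by rw [htw]; group

end Cfsg.Agent.Chevalley.AltSection.WordAct
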