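import Cfsg.Agent.Lib.Chevalley.AltSection.RankTwo
import Cfsg.Agent.Lib.Chevalley.AltSection.WordAct
import Cfsg.Agent.Lib.Chevalley.AltSection.TwoStructure
import Cfsg.Agent.Lib.Chevalley.AltSection.F4
import Cfsg.Agent.Lib.Chevalley.Twist.CountD4

/-! Alternating sections of the triality twisted groups. -/

set_option autoImplicit false
set_option linter.unusedSectionVars false
set_option maxRecDepth 100000

namespace Cfsg.Agent.Chevalley.AltSection.D4

open Cfsg.Lie Cfsg.Agent.Chevalley Cfsg.Agent.Chevalley.Table Cfsg.Agent.Chevalley.Cert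
  Cfsg.Agent.Chevalley.Group Cfsg.Agent.Chevalley.Unip Cfsg.Agent.Chevalley.Borel
  Cfsg.Agent.Chevalley.Weyl Cfsg.Agent.Chevalley.NormalForm Cfsg.Agent.Chevalley.WeylEnum
  Cfsg.Agent.Chevalley.Twist Cfsg.Agent.Chevalley.Twist.D4 Cfsg.Agent.Chevalley.TorusCard

/-- Orbit words for the twelve elements of the twisted Weyl group. -/
def owords : List (List ℕ) := [[], [0], [1], [0, 1], [1, 0], [0, 1, 0], [1, 0, 1], [0, 1, 0, 1],
  [1, 0, 1, 0], [0, 1, 0, 1, 0], [1, 0, 1, 0, 1], [0, 1, 0, 1, 0, 1]]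

/-- The word of an orbit word. -/
def flat (e : List ℕ) : List ℕ := e.flatMap fun a => Js.getD a []

/-- Powers of a word. -/
def rp (n : ℕ) (e : List ℕ) : List ℕ := (List.replicate n e).flatten

/-- The image of a root. -/
noncomputable def im (e : List ℕ) (r : ℕ) : ℕ := applyW Data.D4.tab e r

/-- Two words give the same permutation. -/
noncomputable def eqB (e e' : List ℕ) : Bool :=
  (List.range 24).all fun r => Nat.beq (im e r) (im e' r)

/-- The exponent of the parameter on the fixed node. -/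
noncomputable def centC (r : ℕ) : ℤ := Data.D4.tab.A 1 r

/-- The exponent of the common parameter on the moved nodes. -/
noncomputable def foldC (r : ℕ) : ℤ :=
  Data.D4.tab.A 0 r + Data.D4.tab.A 2 r + Data.D4.tab.A 3 r

/-- Three words give a relation on the folded exponents. -/
noncomputable def relB (a : ℤ) (e : List ℕ) : Bool :=
  (List.range 24).all fun r =>
    (centC r + a * centC (im e r) + centC (im (rp 2 e) r) == 0) &&
      (foldC r + a * foldC (im e r) + foldC (im (rp 2 e) r) == 0)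

theorem rank_eq : chevD4.rank = 4 := by decide +kernel

theorem nroots_eq : chevD4.nroots = 24 := by decide +kernel

theorem step_tab : ((List.range 2).all fun a => owords.all fun e => owords.any fun e' =>
    eqB (flat (a :: e)) (flat e')) = true := by decide +kernel

theorem six_tab : (owords.all fun e => eqB (rp 6 (flat e)) []) = true := by decide +kernel

theorem tri_tab : (owords.all fun e =>
    eqB (rp 2 (flat e)) [] || relB (-1) (flat e) || relB 1 (flat e)) = true := by decide +kernel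

theorem distinct_tab : ((List.range 12).all fun j => (List.range 12).all fun k =>
    !(eqB (flat (owords.getD j [])) (flat (owords.getD k []))) || Nat.beq j k) = true := by
  decide +kernel

theorem owords_lt : ∀ e ∈ owords, ∀ a ∈ e, a < 2 := by decide +kernel

theorem flat_lt : ∀ e ∈ owords, ∀ i ∈ flat e, i < chevD4.rank := by decide +kernel

theorem rp_lt {e : List ℕ} (he : ∀ i ∈ e, i < chevD4.rank) (n : ℕ) :
    ∀ i ∈ rp n e, i < chevD4.rank := fun i hi => by
  obtain ⟨l, hl, hil⟩ := List.mem_flatten.1 hi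
  rw [List.eq_of_mem_replicate hl] at hil
  exact he i hil

theorem im_eq {e : List ℕ} (he : ∀ i ∈ e, i < chevD4.rank) {r : ℕ} (hr : r < chevD4.nroots) :
    im e r = wL chevD4 e r := StConj.actT_foldr hC he hr

theorem eqB_iff {e e' : List ℕ} (he : ∀ i ∈ e, i < chevD4.rank) (he' : ∀ i ∈ e', i < chevD4.rank) :
    eqB e e' = true ↔ Eqv chevD4 e e' := by
  simp only [eqB, List.all_eq_true, List.mem_range, Nat.beq_eq]
  refine ⟨fun h r hr => ?_, fun h r hr => ?_⟩
  · rw [← im_eq he hr, ← im_eq he' hr]; exact h r (nroots_eq ▸ hr)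
  · have hr' : r < chevD4.nroots := nroots_eq.symm ▸ hr
    rw [im_eq he hr', im_eq he' hr']; exact h r hr'

theorem cover_orbit : ∀ w : List ℕ, (∀ a ∈ w, a < 2) → ∃ e ∈ owords, Eqv chevD4 (flat w) (flat e)
  | [], _ => ⟨[], by simp [owords], fun _ _ => rfl⟩
  | a :: w, h => by
    obtain ⟨e, he, hwe⟩ := cover_orbit w fun b hb => h b (List.mem_cons_of_mem a hb)
    obtain ⟨e', he', hee⟩ := List.any_eq_true.1 (List.all_eq_true.1 (List.all_eq_true.1 step_tab a
      (List.mem_range.2 (h a List.mem_cons_self))) e he)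
    have ha : ∀ i ∈ Js.getD a [], i < chevD4.rank := by
      have : ∀ a < 2, ∀ i ∈ Js.getD a [], i < chevD4.rank := by decide +kernel
      exact this a (h a List.mem_cons_self)
    have hae : ∀ i ∈ flat (a :: e), i < chevD4.rank := by
      intro i hi
      rw [flat, List.flatMap_cons, List.mem_append] at hi
      exact hi.elim (ha i) (flat_lt e he i)
    refine ⟨e', he', fun r hr => ?_⟩
    rw [← (eqB_iff hae (flat_lt e' he')).1 hee r hr]
    simp only [flat, List.flatMap_cons, wL_append]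
    congr 1
    exact hwe r hr

theorem rp_congr {L e : List ℕ} (hL : ∀ i ∈ L, i < chevD4.rank) (h : Eqv chevD4 L e) :
    ∀ n, ∀ r < chevD4.nroots, wL chevD4 (rp n L) r = wL chevD4 (rp n e) r := by
  intro n
  induction n with
  | zero => intro r _; rfl
  | succ n ih =>
    intro r hr
    simp only [rp, List.replicate_succ, List.flatten_cons, wL_append] at ih ⊢
    rw [← ih r hr]
    exact h _ (wL_lt hC (rp_lt hL n) hr)

variable {K : Type*} [Field K] [Fintype K] {q : ℕ} {hK : Fintype.card K = q ^ 3}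
  (X : Setup (K := K) hK)
include X

theorem J_fun : X.O.J = fun a => Js.getD a [] := funext X.J_eq

/-- The word of the normal form of an element of the twisted group. -/
theorem word_cover {g v u : GL chevD4.Idx K} (hg : g ∈ twistedD4 K q)
    (hv : v ∈ chevD4.posUnipotent K) {c : ℕ → Kˣ} {L : List ℕ} (hL : ∀ i ∈ L, i < chevD4.rank)
    (hu : u ∈ Uminus chevD4 K (tor chevD4 c * nL hC K L))
    (e : g = v * (tor chevD4 c * nL hC K L) * u) :
    ∃ w ∈ owords, Eqv chevD4 L (flat w) := by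
  obtain ⟨v', hv', -, n', hn', hn'F, u', hu', -, e'⟩ := fixed_form X.S (X.gen.le hg)
  obtain ⟨c', L', hL', rfl⟩ := (mem_N_iff hC).1 hn'
  obtain ⟨h1, -⟩ := unique_form hC (Subgroup.mem_sup_left hv) (Subgroup.mem_sup_left hv')
    ((mem_N_iff hC).2 ⟨c, L, hL, rfl⟩) hn' hu hu' (e ▸ e')
  have hLL : Eqv chevD4 L L' := fun r hr =>
    eqv_of_mul_H (c := c) (c' := c') hL hL' h1 (mul_inv_cancel_left _ _) hr
  obtain ⟨w, hw, hLw⟩ := exists_orbit_word (O := X.O) hL' (equiv_of_fixed hL' hn'F)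
  rw [J_fun X] at hLw
  obtain ⟨e0, he0, hwe⟩ := cover_orbit w fun a ha => X.k_eq ▸ hw a ha
  exact ⟨e0, he0, fun r hr => (hLL r hr).trans ((hLw r hr).trans (hwe r hr))⟩

omit X

/-- The parameters of the split part of the torus. -/
def split (s t : Kˣ) : ℕ → Kˣ := fun i => if i = 1 then s else t

theorem split_char (s t : Kˣ) {r : ℕ} (hr : r < chevD4.nroots) :
    torChar chevD4 (split s t) r = s ^ centC r * t ^ foldC r := by
  have hA : ∀ i < 4, Data.D4.tab.A i r = chevD4.cartan i r := fun i hi =>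
    hC.linked.A_eq i (rank_eq.symm ▸ hi) r hr
  simp only [torChar, rank_eq, Finset.prod_range_succ, Finset.prod_range_zero, one_mul, split,
    centC, foldC, hA 0 (by norm_num), hA 1 (by norm_num), hA 2 (by norm_num), hA 3 (by norm_num),
    zpow_add]
  simp only [show ¬ (0 : ℕ) = 1 by norm_num, show ¬ (2 : ℕ) = 1 by norm_num,
    show ¬ (3 : ℕ) = 1 by norm_num, if_true, if_false]
  simp only [mul_comm, mul_left_comm, mul_assoc]

/-- The units of the small field. -/
abbrev P1 (K : Type*) [Field K] (q : ℕ) : Subgroup Kˣ := (powMonoidHom (q - 1) : Kˣ →* Kˣ).ker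

/-- The parametrisation of the split part of the torus. -/
noncomputable def γ (K : Type*) [Field K] (q : ℕ) : P1 K q × P1 K q →* GL chevD4.Idx K :=
  MonoidHom.mk' (fun p => tor chevD4 (split (p.1 : Kˣ) (p.2 : Kˣ))) fun p p' => by
    rw [tor_mul]
    congr 1
    funext i
    simp only [Pi.mul_apply, split, Prod.fst_mul, Prod.snd_mul, Subgroup.coe_mul]
    split <;> rfl

/-- The split part of the torus. -/
noncomputable def splitTorus (K : Type*) [Field K] (q : ℕ) : Subgroup (twistedD4 K q) :=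
  (γ K q).range.subgroupOf (twistedD4 K q)

theorem γ_injective : Function.Injective (γ K q) := by
  rw [injective_iff_map_eq_one]
  rintro ⟨s, t⟩ h
  have e := fun r (hr : r < chevD4.nroots) =>
    torChar_eq hC (h.trans (tor_one (D := chevD4) (F := K)).symm :
      tor chevD4 (split (s : Kˣ) (t : Kˣ)) = tor chevD4 1) hr
  have hv : centC (chevD4.simple 0) = -1 ∧ foldC (chevD4.simple 0) = 2 ∧
      centC (chevD4.simple 1) = 2 ∧ foldC (chevD4.simple 1) = -3 := by decide +kernel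
  obtain ⟨v1, v2, v3, v4⟩ := hv
  have e0 := e _ (hC.simple_lt (show 0 < chevD4.rank by rw [rank_eq]; norm_num))
  have e1 := e _ (hC.simple_lt (show 1 < chevD4.rank by rw [rank_eq]; norm_num))
  rw [split_char _ _ (hC.simple_lt (by rw [rank_eq]; norm_num)), v1, v2] at e0
  rw [split_char _ _ (hC.simple_lt (by rw [rank_eq]; norm_num)), v3, v4] at e1
  simp only [torChar, Pi.one_apply, one_zpow, Finset.prod_const_one] at e0 e1
  have hs : (s : Kˣ) = (t : Kˣ) ^ (2 : ℤ) := by
    rw [zpow_neg_one, inv_mul_eq_one] at e0; exact e0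
  have ht : (t : Kˣ) = 1 := by
    rw [hs, ← zpow_mul, ← zpow_add] at e1
    simpa using e1
  rw [ht, one_zpow] at hs
  exact Prod.ext (Subtype.ext hs) (Subtype.ext ht)

include X

theorem range_le : (γ K q).range ≤ twistedD4 K q := by
  rintro _ ⟨⟨s, t⟩, rfl⟩
  have hfix : ∀ u : P1 K q, (u : Kˣ) ^ q = u := fun u => by
    have h : (u : Kˣ) ^ (q - 1) = 1 := u.2
    rcases Nat.eq_zero_or_pos q with h0 | h0
    · exfalso
      have := hK
      rw [h0] at this
      simp at this
    calc (u : Kˣ) ^ q = (u : Kˣ) ^ (q - 1 + 1) := by rw [Nat.sub_add_cancel h0]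
      _ = u := by rw [pow_succ, h, one_mul]
  refine Fx_le X.O X.gen ?_
  have hlt : ∀ j < chevD4.rank, πi j < chevD4.rank := πlt
  have hinv : ∀ j < chevD4.rank, X.S.π (πi j) = j := fun j hj => by rw [X.π_eq]; exact πinv j hj
  have h := img_torHom X.S hlt hinv fun i => split (s : Kˣ) (t : Kˣ) i
  have e1 : tau X.S πi hlt (fun i : Fin chevD4.rank => split (s : Kˣ) (t : Kˣ) i) =
      fun i : Fin chevD4.rank => split (s : Kˣ) (t : Kˣ) i := by
    funext j
    refine Units.ext ?_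
    show X.S.hom (πi j) (split (s : Kˣ) (t : Kˣ) (πi j) : K) = _
    have hj : (j : ℕ) < 4 := lt_of_lt_of_eq j.2 rank_eq
    have hj4 : πi j < 4 := lt_of_lt_of_eq (hlt j j.2) rank_eq
    rw [X.hom_eq _ hj4, ← Units.val_pow_eq_pow_val]
    congr 1
    rcases j with ⟨j, hj'⟩
    change j < 4 at hj
    interval_cases j <;> simp [split, hfix]
  have e : torHom chevD4 K (fun i : Fin chevD4.rank => split (s : Kˣ) (t : Kˣ) i) =
      tor chevD4 (split (s : Kˣ) (t : Kˣ)) :=
    dg_congr fun a _ => Finset.prod_congr rfl fun i hi => by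
      rw [ext, dif_pos (Finset.mem_range.1 hi)]
  rw [e1, e] at h
  exact h

theorem split_index (hq : IsPrimePow q) (hq5 : (q : ZMod 5) = 1) :
    ¬ 5 ∣ (splitTorus K q).index := by
  classical
  haveI : Fact (Nat.Prime 5) := ⟨by norm_num⟩
  intro h
  have hc := card_group X hq
  rw [← Subgroup.card_mul_index (splitTorus K q), splitTorus,
    Nat.card_congr (Subgroup.subgroupOfEquivOfLe (range_le X)).toEquiv,
    ← Nat.card_congr (MonoidHom.ofInjective γ_injective).toEquiv, Nat.card_prod,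
    card_powfix_units hK] at hc
  have h2 : 2 ≤ q := hq.two_le
  obtain ⟨S, hS⟩ : ∃ S : ℕ → ℕ, S = fun d => ∑ i ∈ Finset.range d, q ^ i := ⟨_, rfl⟩
  have hgs : ∀ d, q ^ d - 1 = S d * (q - 1) := fun d => by
    rw [hS]; exact (geom_sum_mul_of_one_le (by omega) d).symm
  rw [hgs 2, hgs 6] at hc
  have e : (splitTorus K q).index = q ^ 12 * (S 2 * S 6) * (q ^ 8 + q ^ 4 + 1) :=
    Nat.eq_of_mul_eq_mul_left (Nat.mul_pos (by omega) (by omega) : 0 < (q - 1) * (q - 1))
      (hc.trans (by ring))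
  have hz := (ZMod.natCast_eq_zero_iff _ _).2 h
  rw [e, hS] at hz
  simp only [Nat.cast_mul, Nat.cast_pow, Nat.cast_sum, Nat.cast_add, Nat.cast_one, hq5, one_pow,
    Finset.sum_const, Finset.card_range, nsmul_eq_mul, mul_one, one_mul] at hz
  have h36 : ((36 : ℕ) : ZMod 5) = 0 := by
    push_cast at hz ⊢
    linear_combination hz
  rw [ZMod.natCast_eq_zero_iff] at h36
  norm_num at h36

/-- Conjugations inside the split torus satisfy one of the three relations. -/
theorem tri : RankTwo.Tri (splitTorus K q) := by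
  intro g P hP hgP
  obtain ⟨S, hSd⟩ : ∃ S : Set (GL chevD4.Idx K), S = Subtype.val '' (P : Set (twistedD4 K q)) :=
    ⟨_, rfl⟩
  have hγ : ∀ z ∈ S, z ∈ (γ K q).range := by
    rw [hSd]; rintro _ ⟨x, hx, rfl⟩; exact Subgroup.mem_subgroupOf.1 (hP hx)
  have hS : ∀ z ∈ S, z ∈ chevD4.diagonalSubgroup K := fun z hz => by
    obtain ⟨p, rfl⟩ := hγ z hz; exact tor_mem_H hC _
  have hgS : ∀ z ∈ S, (g : GL chevD4.Idx K) * z * (g : GL chevD4.Idx K)⁻¹ ∈ S := by
    rw [hSd]; rintro _ ⟨x, hx, rfl⟩; exact ⟨_, hgP x hx, rfl⟩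
  obtain ⟨v, hv, c, L, hL, u, hu, hform, hA⟩ :=
    WordAct.exists_acts hC (K_le_group X.gen g.2) hS hgS
  obtain ⟨w, hw, hLw⟩ := word_cover X g.2 hv hL hu hform
  have hwl := flat_lt w hw
  have himg : ∀ x ∈ P, (x : GL chevD4.Idx K) ∈ S := fun x hx => hSd ▸ ⟨x, hx, rfl⟩
  have hchar : ∀ a : ℤ, relB a (flat w) = true → ∀ x ∈ S, ∀ d : ℕ → Kˣ, x = tor chevD4 d →
      ∀ r < chevD4.nroots, torChar chevD4 d r * torChar chevD4 d (wL chevD4 L r) ^ a *
        torChar chevD4 d (wL chevD4 (List.replicate 2 L).flatten r) = 1 := by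
    intro a ha x hx d hd r hr
    obtain ⟨⟨s, t⟩, hst⟩ := hγ x hx
    have e : tor chevD4 d = tor chevD4 (split (s : Kˣ) (t : Kˣ)) := hd.symm.trans hst.symm
    have h1 := wL_lt hC hL hr
    have h2 : wL chevD4 (List.replicate 2 L).flatten r < chevD4.nroots := wL_lt hC (rp_lt hL 2) hr
    rw [torChar_eq hC e hr, torChar_eq hC e h1, torChar_eq hC e h2, split_char _ _ hr,
      split_char _ _ h1, split_char _ _ h2]
    have hb := List.all_eq_true.1 ha r (List.mem_range.2 (nroots_eq ▸ hr))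
    rw [Bool.and_eq_true, beq_iff_eq, beq_iff_eq, im_eq hwl hr, im_eq (rp_lt hwl 2) hr,
      ← hLw r hr, ← rp_congr hL hLw 2 r hr] at hb
    obtain ⟨b1, b2⟩ := hb
    have hz : ∀ (x y : Kˣ) (i i' i'' j j' j'' : ℤ), x ^ i * y ^ j * (x ^ i' * y ^ j') *
        (x ^ i'' * y ^ j'') = x ^ (i + i' + i'') * y ^ (j + j' + j'') := fun x y i i' i'' j j' j'' => by
      simp only [zpow_add]; ac_rfl
    rw [mul_zpow, ← zpow_mul, ← zpow_mul, mul_comm _ a, mul_comm _ a, hz,
      show centC r + a * centC (wL chevD4 L r) +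
        centC (wL chevD4 (List.replicate 2 L).flatten r) = 0 from b1,
      show foldC r + a * foldC (wL chevD4 L r) +
        foldC (wL chevD4 (List.replicate 2 L).flatten r) = 0 from b2, zpow_zero, zpow_zero, mul_one]
  have h := List.all_eq_true.1 tri_tab w hw
  simp only [Bool.or_eq_true] at h
  rcases h with (h | h) | h
  · refine Or.inl fun x hx => Subtype.ext (WordAct.sq_fix hC hS hA (fun r hr => ?_) _ (himg x hx))
    exact (rp_congr hL hLw 2 r hr).trans ((eqB_iff (rp_lt hwl 2) (by simp)).1 h r hr)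
  · refine Or.inr (Or.inl fun x hx => Subtype.ext ?_)
    have e := WordAct.rel_apply_char hC hS hL hA (hchar _ h) _ (himg x hx)
    rw [zpow_neg_one, mul_assoc, H_comm hC (inv_mem (hS _ (hgS _ (himg x hx))))
      (hS _ (himg x hx)), ← mul_assoc] at e
    exact mul_inv_eq_one.1 e
  · refine Or.inr (Or.inr fun x hx => Subtype.ext ?_)
    have e := WordAct.rel_apply_char hC hS hL hA (hchar _ h) _ (himg x hx)
    rw [zpow_one] at e
    exact e

/-- The torus in the twisted group. -/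
noncomputable abbrev torus (K : Type*) [Field K] (q : ℕ) : Subgroup (twistedD4 K q) :=
  (chevD4.diagonalSubgroup K).subgroupOf (twistedD4 K q)

/-- The monomial elements of the twisted group. -/
noncomputable abbrev mono (K : Type*) [Field K] (q : ℕ) : Subgroup (twistedD4 K q) :=
  (chevD4.monomialSubgroup K).subgroupOf (twistedD4 K q)

theorem card_mono : Nat.card (mono K q) = 12 * Nat.card (torus K q) := by
  classical
  have hlt : ∀ k : Fin 12, owords.getD k [] ∈ owords := by decide +kernel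
  have hex : ∀ k : Fin 12, ∃ c : ℕ → Kˣ,
      tor chevD4 c * nL hC K (flat (owords.getD k [])) ∈ twistedD4 K q := fun k => by
    have := top_mono_mem X.O X.gen (owords.getD k []) fun a ha =>
      X.k_eq.symm ▸ owords_lt _ (hlt k) a ha
    rw [J_fun X] at this
    exact this
  choose c hc using hex
  obtain ⟨m, hm⟩ : ∃ m : Fin 12 → GL chevD4.Idx K,
      m = fun k : Fin 12 => tor chevD4 (c k) * nL hC K (flat (owords.getD k [])) := ⟨_, rfl⟩
  have hmN : ∀ k, m k ∈ chevD4.monomialSubgroup K := fun k =>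
    hm ▸ (mem_N_iff hC).2 ⟨_, _, flat_lt _ (hlt k), rfl⟩
  have hmG : ∀ k, m k ∈ twistedD4 K q := fun k => hm ▸ hc k
  have hHN : chevD4.diagonalSubgroup K ≤ chevD4.monomialSubgroup K := le_sup_left
  rw [← Nat.card_fin 12, ← Nat.card_prod]
  symm
  refine Nat.card_eq_of_bijective (fun p : Fin 12 × torus K q =>
    (⟨⟨((p.2 : twistedD4 K q) : GL chevD4.Idx K) * m p.1, mul_mem p.2.1.2 (hmG _)⟩,
      Subgroup.mem_subgroupOf.2 (mul_mem (hHN (Subgroup.mem_subgroupOf.1 p.2.2)) (hmN _))⟩ : mono K q))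
    ⟨?_, ?_⟩
  · rintro ⟨j, a⟩ ⟨k, b⟩ e
    have e' : ((a : twistedD4 K q) : GL chevD4.Idx K) * m j =
        ((b : twistedD4 K q) : GL chevD4.Idx K) * m k :=
      congrArg (fun t : mono K q => ((t : twistedD4 K q) : GL chevD4.Idx K)) e
    obtain ⟨da, hda⟩ := (mem_H_iff hC).1 (Subgroup.mem_subgroupOf.1 a.2)
    obtain ⟨db, hdb⟩ := (mem_H_iff hC).1 (Subgroup.mem_subgroupOf.1 b.2)
    have e2 := e'
    rw [hm, hda, hdb, ← mul_assoc, tor_mul, ← mul_assoc, tor_mul] at e2
    have hb : eqB (flat (owords.getD j [])) (flat (owords.getD k [])) = true :=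
      (eqB_iff (flat_lt _ (hlt j)) (flat_lt _ (hlt k))).2 fun r hr =>
        wL_congr hC (flat_lt _ (hlt j)) (flat_lt _ (hlt k)) e2 hr
    have hjk := List.all_eq_true.1 (List.all_eq_true.1 distinct_tab j (List.mem_range.2 j.2)) k
      (List.mem_range.2 k.2)
    rw [hb, Bool.not_true, Bool.false_or, Nat.beq_eq] at hjk
    obtain rfl := Fin.ext hjk
    exact Prod.ext rfl (Subtype.ext (Subtype.ext (mul_right_cancel e')))
  · rintro ⟨⟨x, hxG⟩, hxN⟩
    obtain ⟨d, L, hL, hx⟩ := (mem_N_iff hC).1 (Subgroup.mem_subgroupOf.1 hxN)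
    change x = _ at hx
    obtain ⟨w, hw, hLw⟩ := word_cover X hxG (one_mem _) (c := d) hL (one_mem _)
      (by rw [hx, one_mul, mul_one])
    obtain ⟨k, hk, rfl⟩ := List.getElem_of_mem hw
    have hk' : k < 12 := hk
    have hmem : x * (m ⟨k, hk'⟩)⁻¹ ∈ chevD4.diagonalSubgroup K := by
      obtain ⟨d', hd'⟩ := Order.nL_eq_tor_mul (F := K) hC hL (flat_lt _ (hlt ⟨k, hk'⟩))
        (e := flat (owords.getD k [])) (by rwa [List.getD_eq_getElem _ _ hk])
      rw [hm, hx, hd']
      rw [show tor chevD4 d * (tor chevD4 d' * nL hC K (flat (owords.getD k []))) *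
        (tor chevD4 (c ⟨k, hk'⟩) * nL hC K (flat (owords.getD k [])))⁻¹ =
        tor chevD4 d * tor chevD4 d' * (tor chevD4 (c ⟨k, hk'⟩))⁻¹ by group]
      exact mul_mem (mul_mem (tor_mem_H hC _) (tor_mem_H hC _)) (inv_mem (tor_mem_H hC _))
    exact ⟨⟨⟨k, hk'⟩, ⟨⟨_, mul_mem hxG (inv_mem (hmG _))⟩, Subgroup.mem_subgroupOf.2 hmem⟩⟩,
      Subtype.ext (Subtype.ext (inv_mul_cancel_right x (m ⟨k, hk'⟩)))⟩

theorem mono_index (hq : IsPrimePow q) (hq4 : q % 4 = 1) : ¬ 2 ∣ (mono K q).index := by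
  classical
  intro h
  obtain ⟨k, hk⟩ := h
  have hc := card_group X hq
  have hT : Nat.card (torus K q) = (q - 1) ^ 2 * (q ^ 2 + q + 1) := by
    rw [← card_H X hq, torus, ← Subgroup.inf_subgroupOf_right,
      Nat.card_congr (Subgroup.subgroupOfEquivOfLe inf_le_right).toEquiv]
  rw [← Subgroup.card_mul_index (mono K q), card_mono X, hT, hk] at hc
  obtain ⟨j, rfl⟩ : ∃ j, q = 4 * j + 1 := ⟨q / 4, by have := hq.two_le; omega⟩
  obtain ⟨S, hS⟩ : ∃ S : ℕ → ℕ, S = fun d => ∑ i ∈ Finset.range d, (4 * j + 1) ^ i := ⟨_, rfl⟩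
  have hgs : ∀ d, (4 * j + 1) ^ d - 1 = S d * (4 * j + 1 - 1) := fun d => by
    rw [hS]; exact (geom_sum_mul_of_one_le (by omega) d).symm
  rw [hgs 2, hgs 6, hS] at hc
  simp only [Finset.sum_range_succ, Finset.sum_range_zero, zero_add] at hc
  have hj : 0 < j := by have := hq.two_le; omega
  rw [show 4 * j + 1 - 1 = 4 * j by omega] at hc
  have h4 : (4 * j + 1) ^ 12 * ((2 * j + 1) ^ 2 * ((4 * j + 1) ^ 4 + (4 * j + 1) ^ 2 + 1)) *
      ((4 * j + 1) ^ 8 + (4 * j + 1) ^ 4 + 1) =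
        2 * (3 * ((4 * j + 1) ^ 2 + (4 * j + 1) + 1) * k) := by
    refine Nat.eq_of_mul_eq_mul_left (show 0 < 4 * (4 * j) ^ 2 by positivity) ?_
    linear_combination -hc
  have hev := congrArg (· % 2) h4
  simp [Nat.mul_mod, Nat.pow_mod, Nat.add_mod] at hev

theorem sq_mem_torus : ∀ x ∈ mono K q, ∀ k, x ^ 2 ^ k = 1 → x ^ 2 ∈ torus K q := by
  intro x hx k hk
  obtain ⟨d, L, hL, hxe⟩ := (mem_N_iff hC).1 (Subgroup.mem_subgroupOf.1 hx)
  obtain ⟨w, hw, hLw⟩ := word_cover X x.2 (one_mem _) (c := d) hL (one_mem _)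
    (by rw [hxe, one_mul, mul_one])
  have hpow : ∀ n : ℕ, ∃ c : ℕ → Kˣ,
      (x : GL chevD4.Idx K) ^ n = tor chevD4 c * nL hC K (rp n L) := fun n => by
    induction n with
    | zero => exact ⟨1, by simp [rp, nL, tor_one]⟩
    | succ n ih =>
      obtain ⟨c, hc⟩ := ih
      obtain ⟨c', hc'⟩ := nL_conj_tor (F := K) hC hL c
      refine ⟨d * c', ?_⟩
      rw [pow_succ', hc, hxe]
      simp only [rp, List.replicate_succ, List.flatten_cons] at *
      rw [nL_append, ← tor_mul, mul_assoc, ← mul_assoc (nL hC K L), hc']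
      simp only [rp, mul_assoc]
  obtain ⟨c6, hc6⟩ := hpow 6
  obtain ⟨d6, hd6⟩ := Order.nL_eq_tor_mul (F := K) hC (rp_lt hL 6) (e := []) (by simp)
    fun r hr => (rp_congr hL hLw 6 r hr).trans
      ((eqB_iff (rp_lt (flat_lt w hw) 6) (by simp)).1 (List.all_eq_true.1 six_tab w hw) r hr)
  have h6 : x ^ 6 ∈ torus K q := by
    rw [Subgroup.mem_subgroupOf, SubgroupClass.coe_pow, hc6, hd6]
    simp only [nL, List.map_nil, List.prod_nil, mul_one]
    exact mul_mem (tor_mem_H hC _) (tor_mem_H hC _)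
  have h2 : (x ^ 2) ^ 2 ^ k = 1 := by rw [← pow_mul, mul_comm, pow_mul, hk, one_pow]
  obtain ⟨i, hi⟩ := exists_pow_eq_self_of_coprime (x := x ^ 2) (n := 3)
    (Nat.Coprime.coprime_dvd_right (orderOf_dvd_of_pow_eq_one h2)
      (Nat.Coprime.pow_right k (by norm_num)))
  rw [← pow_mul x 2 3] at hi
  exact hi ▸ pow_mem h6 i

theorem torus_comm : ∀ x ∈ torus K q, ∀ y ∈ torus K q, x * y = y * x := fun x hx y hy =>
  Subtype.ext (H_comm hC (Subgroup.mem_subgroupOf.1 hx) (Subgroup.mem_subgroupOf.1 hy))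

theorem torus_invol (hq : Odd q) :
    Nat.card {x : twistedD4 K q // x ∈ torus K q ∧ x * x = 1} ≤ 4 := by
  classical
  obtain ⟨E, hE⟩ : ∃ E : Finset (GL chevD4.Idx K), E = (Finset.univ : Finset (Bool × Bool)).image
      fun σ => tor chevD4 (split (if σ.1 then (-1 : Kˣ) else 1) (if σ.2 then (-1 : Kˣ) else 1)) :=
    ⟨_, rfl⟩
  suffices h : ∀ x : twistedD4 K q, x ∈ torus K q → x * x = 1 → (x : GL chevD4.Idx K) ∈ E by
    refine (Nat.card_le_card_of_injective
      (fun x : {x : twistedD4 K q // x ∈ torus K q ∧ x * x = 1} =>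
        (⟨(x.1 : GL chevD4.Idx K), h x.1 x.2.1 x.2.2⟩ : E))
      fun a b e => Subtype.ext (Subtype.ext (congrArg Subtype.val e :))).trans ?_
    rw [Nat.card_eq_finsetCard, hE]
    exact Finset.card_image_le.trans (by decide)
  intro x hxT hx2
  obtain ⟨c0, hc0⟩ := (mem_H_iff hC).1 (Subgroup.mem_subgroupOf.1 hxT)
  obtain ⟨c, hc, hcf⟩ := X.fix c0 (hc0 ▸ X.gen.le x.2)
  have hxc : (x : GL chevD4.Idx K) = tor chevD4 c := hc0.trans hc.symm
  have hfix : ∀ i < 4, c (nodePi L i) = c i ^ q := fun i hi => Units.ext (by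
    rw [Units.val_pow_eq_pow_val, ← X.hom_eq i hi, ← hcf i (rank_eq.symm ▸ hi), X.π_eq])
  obtain ⟨v, hv⟩ : ∃ v : Fin 4 → Kˣ, v = fun i : Fin 4 => c i * c i := ⟨_, rfl⟩
  have hsq : tor chevD4 (c * c) = tor chevD4 (1 : ℕ → Kˣ) := by
    rw [← tor_mul, ← hxc, tor_one]; exact congrArg Subtype.val hx2
  have e := fun j (hj : j < chevD4.rank) => torChar_eq hC hsq (hC.simple_lt hj)
  have e0 := e 0 (by rw [rank_eq]; norm_num)
  have e1 := e 1 (by rw [rank_eq]; norm_num)
  have e2 := e 2 (by rw [rank_eq]; norm_num)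
  have e3 := e 3 (by rw [rank_eq]; norm_num)
  simp [torChar, rank_eq, Finset.prod_range_succ, cartan_vals, zpow_ofNat] at e0 e1 e2 e3
  have h00 : (c 0 * c 0) ^ 2 = c 1 * c 1 := mul_inv_eq_one.1 e0
  have h11 : (c 1 * c 1) ^ 2 = c 0 * c 0 * (c 2 * c 2) * (c 3 * c 3) := by
    rw [← mul_inv_eq_one, mul_inv, mul_inv]
    simpa [mul_comm, mul_left_comm, mul_assoc] using e1
  have h22 : (c 2 * c 2) ^ 2 = c 1 * c 1 := mul_inv_eq_one.1 (by
    simpa [mul_comm, mul_left_comm, mul_assoc] using e2)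
  have h33 : (c 3 * c 3) ^ 2 = c 1 * c 1 := mul_inv_eq_one.1 (by
    simpa [mul_comm, mul_left_comm, mul_assoc] using e3)
  obtain ⟨a, ha⟩ : ∃ a, a = c 0 * c 0 := ⟨_, rfl⟩
  obtain ⟨b, hb⟩ : ∃ b, b = c 1 * c 1 := ⟨_, rfl⟩
  have hb1 : b = 1 := by
    have e4 : (b ^ 2) ^ 2 = b ^ 3 := by
      rw [hb, h11, mul_pow, mul_pow, h00, h22, h33, pow_succ, pow_two]
    rw [← pow_mul, show 2 * 2 = 3 + 1 from rfl, pow_succ] at e4
    exact mul_eq_left.1 e4
  rw [← hb, hb1] at h00 h11
  rw [← ha] at h00 h11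
  obtain ⟨m, hm⟩ := hq
  have hodd : ∀ u : Kˣ, u ^ 2 = 1 → u ^ q = u := fun u hu => by
    rw [hm, pow_succ, pow_mul, hu, one_pow, one_mul]
  have f2 : c 2 = c 0 ^ q := hfix 0 (by norm_num)
  have f3 : c 3 = c 2 ^ q := hfix 2 (by norm_num)
  have hc2 : c 2 * c 2 = a := by rw [f2, ← mul_pow, ← ha, hodd a h00]
  have hc3 : c 3 * c 3 = a := by rw [f3, ← mul_pow, hc2, hodd a h00]
  rw [hc2, hc3, ← pow_two, h00, one_mul, one_pow] at h11
  have hq0 : ∀ u : Kˣ, u * u = 1 → u ^ q = u := fun u hu => hodd u (by rw [pow_two, hu])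
  have ha0 : c 0 * c 0 = 1 := ha.symm.trans h11.symm
  have g2 : c 2 = c 0 := f2.trans (hq0 _ ha0)
  have g3 : c 3 = c 0 := by rw [f3, g2, hq0 _ ha0]
  have hpm : ∀ u : Kˣ, u * u = 1 → u = if decide (u ≠ 1) = true then -1 else 1 := by
    intro u hu
    by_cases h1 : u = 1
    · simp [h1]
    rw [if_pos (by simpa using h1)]
    rcases mul_self_eq_one_iff.1 (congrArg Units.val hu : (u : K) * u = 1) with h | h
    · exact absurd (Units.ext h) h1
    · exact Units.ext h
  rw [hE, Finset.mem_image]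
  refine ⟨(decide (c 1 ≠ 1), decide (c 0 ≠ 1)), Finset.mem_univ _, ?_⟩
  rw [hxc, ← hpm _ (hb.symm.trans hb1), ← hpm _ ha0]
  refine dg_congr fun r _ => Finset.prod_congr rfl fun i hi => ?_
  rw [Finset.mem_range, rank_eq] at hi
  congr 1
  interval_cases i <;> simp [split, g2, g3]

omit X

/-- The twisted group over a field with `q` to the fourth. -/
theorem map_twisted {K' : Type*} [Field K'] (e : K →+* K') {g : GL chevD4.Idx K}
    (hq : Fintype.card K = q ^ 3) (hg : g ∈ twistedD4 K q) :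
    FieldAut.mapGL chevD4 e g ∈ twistedD4 K' (q ^ 4) := by
  have hword : ∀ w : List (ℕ × K), FieldAut.mapGL chevD4 e (wordGL hC w) =
      wordGL hC (w.map fun p => (p.1, e p.2)) := fun w => by
    rw [wordGL, wordGL, map_list_prod, List.map_map, List.map_map]
    congr 1
    exact List.map_congr_left fun p _ => FieldFix.mapGL_xg hC e _ _
  suffices twistedD4 K q ≤ (twistedD4 K' (q ^ 4)).comap (FieldAut.mapGL chevD4 e) from this hg
  rw [twistedD4, genSubgroup_eq hC, Subgroup.closure_le]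
  rintro _ ⟨w, hw, rfl⟩
  show FieldAut.mapGL chevD4 e (wordGL hC w) ∈ twistedD4 K' (q ^ 4)
  rw [hword]
  refine wordGL_mem ?_
  rcases hw with ⟨t, ht, r, hr, rfl⟩ | ⟨t, rs, hrs, rfl⟩
  · refine Or.inl ⟨e t, ?_, r, hr, rfl⟩
    rw [← map_pow, show t ^ q ^ 4 = t by
      rw [show q ^ 4 = q * q * q * q by ring]; simp only [pow_mul, ht]]
  · refine Or.inr ⟨e t, rs, hrs, ?_⟩
    have h3 : ∀ n, t ^ (q ^ 3 * n) = t ^ n := fun n => by
      rw [pow_mul, ← hq, FiniteField.pow_card]
    simp only [List.map_cons, List.map_nil, ← map_pow]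
    rw [show q ^ 4 = q ^ 3 * q by ring, h3,
      show (q ^ 3 * q) ^ 2 = q ^ 3 * (q ^ 3 * q ^ 2) by ring, h3, h3]

/-- The bound for the alternating sections. -/
theorem alt_bound {K : Type*} [Field K] [Fintype K] (p a : ℕ) [Fact p.Prime] [CharP K p]
    (ha : 1 ≤ a) (hK : Fintype.card K = (p ^ a) ^ 3) {r : ℕ} (H : Subgroup (twistedD4 K (p ^ a)))
    (N : Subgroup H) [N.Normal] (h : Nonempty (H ⧸ N ≃* alternatingGroup (Fin r))) :
    r ≤ 6 + (if p = 5 then 1 else 0) := by
  classical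
  obtain ⟨φe⟩ := h
  obtain ⟨φ, hφ⟩ : ∃ φ : H →* alternatingGroup (Fin r),
      φ = φe.toMonoidHom.comp (QuotientGroup.mk' N) := ⟨_, rfl⟩
  have hsurj : Function.Surjective φ := hφ ▸ φe.surjective.comp (QuotientGroup.mk'_surjective N)
  have hpp : IsPrimePow (p ^ a) :=
    (Nat.Prime.isPrimePow Fact.out).pow (by omega)
  haveI : Finite (twistedD4 K (p ^ a)) := Finite.of_injective _ Subtype.val_injective
  by_cases hp : p = 5
  · rw [if_pos hp]
    obtain ⟨X⟩ := Twist.D4.exists_setup hpp hK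
    refine TwoStructure.alt_bound (ι := H.subtype) Subtype.val_injective hsurj
      (mono_index X hpp ?_) (torus_comm X) (sq_mem_torus X) (torus_invol X ?_)
    · rw [hp, Nat.pow_mod]; simp
    · rw [hp]; exact Odd.pow (by decide)
  · rw [if_neg hp, add_zero]
    obtain ⟨K', _, _, e, hK'⟩ := F4.exists_extension (F := K) p (n := 4) (by norm_num)
    haveI : Finite (twistedD4 K' ((p ^ a) ^ 4)) := Finite.of_injective _ Subtype.val_injective
    have hK'' : Fintype.card K' = ((p ^ a) ^ 4) ^ 3 := by rw [hK', hK]; ring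
    have hpp' : IsPrimePow ((p ^ a) ^ 4) := hpp.pow (by norm_num)
    obtain ⟨X⟩ := Twist.D4.exists_setup hpp' hK''
    obtain ⟨ι, hι⟩ : ∃ ι : H →* twistedD4 K' ((p ^ a) ^ 4), Function.Injective ι :=
      ⟨((FieldAut.mapGL chevD4 e).comp ((twistedD4 K (p ^ a)).subtype.comp H.subtype)).codRestrict _
        (fun x => map_twisted e hK x.1.2), fun a b h =>
          (FieldFix.mapGL_injective e).comp (Subtype.val_injective.comp Subtype.val_injective)
            (congrArg Subtype.val h)⟩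
    refine RankTwo.alt_bound_six hι hsurj (split_index X hpp' ?_) (tri X)
    haveI : Fact (Nat.Prime 5) := ⟨by norm_num⟩
    refine F4.pow_cast_one (fun h5 => ?_) (by norm_num)
    exact hp ((Nat.prime_dvd_prime_iff_eq (by norm_num) Fact.out).1
      ((by norm_num : Nat.Prime 5).dvd_of_dvd_pow h5)).symm

end Cfsg.Agent.Chevalley.AltSection.D4
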