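import Cfsg.Agent.Lib.Chevalley.AltSection.Groups
import Mathlib.GroupTheory.SpecificGroups.Alternating.Simple
import Mathlib.GroupTheory.Perm.ViaEmbedding

/-! Minimal preimages of the alternating group of degree eight. -/

set_option autoImplicit false
set_option linter.unusedSectionVars false
set_option maxRecDepth 100000

namespace Cfsg.Agent.Chevalley.AltSection

theorem exists_minimal {H A : Type*} [Group H] [Finite H] [Group A] (φ : H →* A)
    (hφ : Function.Surjective φ) :
    ∃ H0 : Subgroup H, H0.map φ = ⊤ ∧ ∀ M : Subgroup H0, M.map (φ.comp H0.subtype) = ⊤ → M = ⊤ := by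
  classical
  obtain ⟨S, hS⟩ : ∃ S : Set (Subgroup H), S = {M | M.map φ = ⊤} := ⟨_, rfl⟩
  have hne : S.Nonempty := ⟨⊤, by rw [hS]; exact Subgroup.map_top_of_surjective φ hφ⟩
  obtain ⟨H0, hH0, hmin⟩ := Set.exists_min_image S (fun M => Nat.card M) (Set.toFinite S) hne
  refine ⟨H0, by rw [hS] at hH0; exact hH0, fun M hM => ?_⟩
  have h1 : M.map H0.subtype ∈ S := by
    rw [hS]; show (M.map H0.subtype).map φ = ⊤
    rw [Subgroup.map_map]; exact hM
  have h2 := hmin _ h1
  rw [Nat.card_congr (M.equivMapOfInjective H0.subtype Subtype.val_injective).symm.toEquiv] at h2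
  exact Subgroup.eq_top_of_card_eq M (le_antisymm (Subgroup.card_le_card_group M) h2)

/-- Translations of the two blocks of four points. -/
private def blockFun (a b : Fin 4) (i : Fin 8) : Fin 8 :=
  if i.val < 4 then Fin.ofNat 8 (i.val ^^^ a.val) else Fin.ofNat 8 (i.val ^^^ b.val)

private theorem blockFun_invol : ∀ a b : Fin 4, ∀ i : Fin 8, blockFun a b (blockFun a b i) = i := by
  decide +kernel

private def blockPerm (a b : Fin 4) : Equiv.Perm (Fin 8) :=
  Function.Involutive.toPerm (blockFun a b) (blockFun_invol a b)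

private theorem blockFun_mul : ∀ a b c d : Fin 4, ∃ e f : Fin 4, ∀ i : Fin 8,
    blockFun a b (blockFun c d i) = blockFun e f i := by
  decide +kernel

private theorem blockFun_inj : ∀ a b c d : Fin 4, (∀ i : Fin 8, blockFun a b i = blockFun c d i) →
    a = c ∧ b = d := by
  decide +kernel

private theorem blockFun_one : ∀ i : Fin 8, blockFun 0 0 i = i := by
  decide +kernel

private theorem blockPerm_sign : ∀ a b : Fin 4, Equiv.Perm.sign (blockPerm a b) = 1 := by
  decide +kernel

/-- An elementary subgroup of order sixteen of the alternating group of degree eight. -/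
theorem exists_sixteen : ∃ E : Subgroup (alternatingGroup (Fin 8)),
    Nat.card E = 16 ∧ ∀ x ∈ E, x * x = 1 := by
  classical
  have hinv : ∀ a b, (blockPerm a b)⁻¹ = blockPerm a b := fun _ _ => Equiv.ext fun _ => rfl
  refine ⟨{ carrier := {x | ∃ a b, (x : Equiv.Perm (Fin 8)) = blockPerm a b}
            mul_mem' := ?_
            one_mem' := ⟨0, 0, Equiv.ext fun i => (blockFun_one i).symm⟩
            inv_mem' := ?_ }, ?_, ?_⟩
  · rintro x y ⟨a, b, hx⟩ ⟨c, d, hy⟩
    obtain ⟨e, f, h⟩ := blockFun_mul a b c d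
    refine ⟨e, f, Equiv.ext fun i => ?_⟩
    rw [Subgroup.coe_mul, hx, hy]
    exact h i
  · rintro x ⟨a, b, hx⟩
    exact ⟨a, b, by rw [Subgroup.coe_inv, hx, hinv]⟩
  · refine (Nat.card_congr (Equiv.ofBijective (fun p : Fin 4 × Fin 4 =>
      ⟨⟨blockPerm p.1 p.2, Equiv.Perm.mem_alternatingGroup.2 (blockPerm_sign _ _)⟩, p.1, p.2, rfl⟩)
      ⟨?_, ?_⟩)).symm.trans (by simp)
    · intro p q e
      have h : blockPerm p.1 p.2 = blockPerm q.1 q.2 := congrArg (fun t => t.1.1) e
      have h' := blockFun_inj _ _ _ _ fun i => congrArg (fun t : Equiv.Perm (Fin 8) => t i) h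
      exact Prod.ext h'.1 h'.2
    · rintro ⟨⟨x, _⟩, a, b, hx⟩
      exact ⟨(a, b), Subtype.ext (Subtype.ext hx.symm)⟩
  · rintro x ⟨a, b, hx⟩
    refine Subtype.ext ?_
    rw [Subgroup.coe_mul, Subgroup.coe_one, hx]
    exact Equiv.ext fun i => blockFun_invol a b i

/-- A minimal preimage whose kernel has even order has a central involution in the kernel, provided
it has no elementary subgroup of order sixteen. -/
theorem exists_central {H : Type*} [Group H] [Finite H] {ψ : H →* alternatingGroup (Fin 8)}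
    (hψ : Function.Surjective ψ) (hmin : ∀ M : Subgroup H, M.map ψ = ⊤ → M = ⊤)
    (hrk : ∀ V : Subgroup H, (∀ x ∈ V, x * x = 1) → Nat.card V < 16) :
    ∃ z : H, z ≠ 1 ∧ z * z = 1 ∧ ∀ h : H, z * h = h * z := by
  classical
  haveI : Fact (Nat.Prime 2) := ⟨Nat.prime_two⟩
  haveI : IsSimpleGroup (alternatingGroup (Fin 8)) := alternatingGroup.isSimpleGroup (by simp)
  obtain ⟨E, hE16, hEsq⟩ := exists_sixteen
  have hA : Nat.card (alternatingGroup (Fin 8)) = 20160 := by
    rw [nat_card_alternatingGroup]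
    · simp [Nat.factorial]
  obtain ⟨P⟩ : Nonempty (Sylow 2 ψ.ker) := inferInstance
  obtain ⟨Q, hQ⟩ : ∃ Q, Q = (P : Subgroup ψ.ker).map ψ.ker.subtype := ⟨_, rfl⟩
  -- the kernel has even order
  have hQne : Q ≠ ⊥ := by
    intro hbot
    obtain ⟨R⟩ : Nonempty (Sylow 2 (E.comap ψ)) := inferInstance
    obtain ⟨V, hV⟩ : ∃ V, V = (R : Subgroup (E.comap ψ)).map (E.comap ψ).subtype := ⟨_, rfl⟩
    have hPbot : (P : Subgroup ψ.ker) = ⊥ := by
      rw [hQ, Subgroup.map_eq_bot_iff_of_injective _ Subtype.val_injective] at hbot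
      exact hbot
    have hodd : ¬ 2 ∣ Nat.card ψ.ker := by
      have := P.not_dvd_index
      rwa [hPbot, Subgroup.index_bot] at this
    have hdis : ∀ x ∈ V, ψ x = 1 → x = 1 := by
      intro x hx h1
      rw [hV] at hx
      obtain ⟨y, hy, rfl⟩ := hx
      obtain ⟨k, hk⟩ := R.2 ⟨y, hy⟩
      have hk' : ((y : E.comap ψ) : H) ^ 2 ^ k = 1 :=
        congrArg (fun t : (R : Subgroup (E.comap ψ)) => ((t : E.comap ψ) : H)) hk
      have h2 : orderOf (⟨_, h1⟩ : ψ.ker) ∣ 2 ^ k := orderOf_dvd_of_pow_eq_one (Subtype.ext hk')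
      have h3 : Nat.Coprime (2 ^ k) (Nat.card ψ.ker) :=
        Nat.Coprime.pow_left k (Nat.prime_two.coprime_iff_not_dvd.2 hodd)
      have h4 : orderOf (⟨_, h1⟩ : ψ.ker) = 1 :=
        Nat.eq_one_of_dvd_one (h3 ▸ Nat.dvd_gcd h2 (orderOf_dvd_natCard _))
      exact congrArg Subtype.val (orderOf_eq_one_iff.1 h4)
    have hVsq : ∀ x ∈ V, x * x = 1 := fun x hx => hdis _ (mul_mem hx hx) (by
      rw [map_mul]
      refine hEsq _ ?_
      rw [hV] at hx
      obtain ⟨y, -, rfl⟩ := hx
      exact y.2)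
    have hcard : 16 ≤ Nat.card V := by
      have hR : 16 ∣ Nat.card (R : Subgroup (E.comap ψ)) := by
        refine R.pow_dvd_card_of_pow_dvd_card (n := 4) ?_
        have h1 := Subgroup.index_comap_of_surjective E hψ
        have h2 := Subgroup.card_mul_index (E.comap ψ)
        have h3 := Subgroup.card_mul_index E
        have h4 := Subgroup.card_mul_index ψ.ker
        rw [Subgroup.index_ker, MonoidHom.range_eq_top.2 hψ, Subgroup.card_top] at h4
        rw [h1, ← h4, ← h3, hE16] at h2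
        have hidx : 0 < E.index := Nat.pos_of_ne_zero Subgroup.index_ne_zero_of_finite
        refine ⟨Nat.card ψ.ker, Nat.eq_of_mul_eq_mul_right hidx (h2.trans ?_)⟩
        ring
      rw [hV, Nat.card_congr ((R : Subgroup (E.comap ψ)).equivMapOfInjective _
        Subtype.val_injective).symm.toEquiv]
      exact Nat.le_of_dvd Nat.card_pos hR
    exact absurd (hrk V hVsq) (by omega)
  -- the Sylow subgroup of the kernel is normal
  haveI hQn : Q.Normal := by
    have h1 : Subgroup.normalizer (Q : Set H) ⊔ ψ.ker = ⊤ := hQ ▸ Sylow.normalizer_sup_eq_top P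
    have h2 : (Subgroup.normalizer (Q : Set H)).map ψ = ⊤ := by
      have := congrArg (Subgroup.map ψ) h1
      rwa [Subgroup.map_sup, (Subgroup.map_eq_bot_iff _).2 le_rfl, sup_bot_eq,
        Subgroup.map_top_of_surjective ψ hψ] at this
    exact Subgroup.normalizer_eq_top_iff.1 (hmin _ h2)
  have hQp : IsPGroup 2 Q := hQ ▸ P.2.map _
  obtain ⟨C, hC⟩ : ∃ C, C = (Subgroup.center Q).map Q.subtype := ⟨_, rfl⟩
  obtain ⟨V, hV⟩ : ∃ V : Subgroup H, ∀ x, x ∈ V ↔ x ∈ C ∧ x * x = 1 := by
    refine ⟨{ carrier := {x | x ∈ C ∧ x * x = 1}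
              one_mem' := ⟨one_mem _, one_mul _⟩
              inv_mem' := fun {x} hx => ⟨inv_mem hx.1, by rw [← mul_inv_rev, hx.2, inv_one]⟩
              mul_mem' := fun {x y} hx hy => ⟨mul_mem hx.1 hy.1, ?_⟩ }, fun x => Iff.rfl⟩
    have hxy : x * y = y * x := by
      have h1 := hx.1; have h2 := hy.1
      rw [hC] at h1 h2
      obtain ⟨a, ha, rfl⟩ := h1; obtain ⟨b, hb, rfl⟩ := h2
      exact congrArg Subtype.val ((Subgroup.mem_center_iff.1 hb) a)
    calc x * y * (x * y) = x * (y * x) * y := by group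
      _ = x * (x * y) * y := by rw [hxy]
      _ = (x * x) * (y * y) := by group
      _ = 1 := by rw [hx.2, hy.2, mul_one]
  haveI hVn : V.Normal := ⟨fun x hx g => by
    rw [hV] at hx ⊢
    have hCn : C.Normal := hC ▸ inferInstance
    exact ⟨hCn.conj_mem x hx.1 g, by
      rw [show g * x * g⁻¹ * (g * x * g⁻¹) = g * (x * x) * g⁻¹ by group, hx.2, mul_one,
        mul_inv_cancel]⟩⟩
  obtain ⟨z, hzV, hz1⟩ : ∃ z ∈ V, z ≠ 1 := by
    haveI : Nontrivial Q := (Subgroup.nontrivial_iff_ne_bot Q).2 hQne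
    haveI := hQp.center_nontrivial
    obtain ⟨n, hn⟩ := IsPGroup.iff_card.1 (hQp.to_subgroup (Subgroup.center Q))
    have hd : 2 ∣ Nat.card (Subgroup.center Q) := by
      rw [hn]
      refine dvd_pow_self 2 fun h0 => ?_
      rw [h0, pow_zero] at hn
      exact absurd hn (Finite.one_lt_card.ne')
    obtain ⟨w, hw⟩ := exists_prime_orderOf_dvd_card' 2 hd
    have hw' : orderOf ((w : Q) : H) = 2 := by
      rw [Subgroup.orderOf_coe, Subgroup.orderOf_coe]; exact hw
    refine ⟨((w : Q) : H), (hV _).2 ⟨hC ▸ ⟨(w : Q), w.2, rfl⟩, ?_⟩, fun e => ?_⟩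
    · rw [← pow_two, ← hw', pow_orderOf_eq_one]
    · rw [e, orderOf_one] at hw'; omega
  refine ⟨z, hz1, ((hV z).1 hzV).2, ?_⟩
  -- the action on the elementary subgroup is trivial
  obtain ⟨ρ, hρ⟩ : ∃ ρ : H →* MulAut V, ρ = MulAut.conjNormal := ⟨_, rfl⟩
  have hnorm : (ρ.ker.map ψ).Normal := Subgroup.Normal.map inferInstance ψ hψ
  rcases hnorm.eq_bot_or_eq_top with h | h
  · exfalso
    have hle : ρ.ker ≤ ψ.ker := (Subgroup.map_eq_bot_iff _).1 h
    have h1 : ψ.ker.index ≤ ρ.ker.index :=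
      Nat.le_of_dvd (Nat.pos_of_ne_zero Subgroup.index_ne_zero_of_finite)
        (Subgroup.index_dvd_of_le hle)
    rw [Subgroup.index_ker, Subgroup.index_ker, MonoidHom.range_eq_top.2 hψ, Subgroup.card_top,
      hA] at h1
    have hV8 : Nat.card V ≤ 8 := by
      have hVp : IsPGroup 2 V := fun x => ⟨1, Subtype.ext (by
        rw [pow_one, pow_two]; exact ((hV x).1 x.2).2)⟩
      obtain ⟨n, hn⟩ := IsPGroup.iff_card.1 hVp
      have h16 := hrk V fun x hx => ((hV x).1 hx).2
      rw [hn] at h16 ⊢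
      have : n < 4 := (Nat.pow_lt_pow_iff_right (by norm_num)).1 (show 2 ^ n < 2 ^ 4 by omega)
      calc 2 ^ n ≤ 2 ^ 3 := Nat.pow_le_pow_right (by norm_num) (by omega)
        _ = 8 := by norm_num
    haveI : Fintype V := Fintype.ofFinite _
    obtain ⟨r, hr⟩ : ∃ r : MulAut V → Equiv.Perm {v : V // v ≠ 1}, r = fun f =>
        f.toEquiv.subtypeEquiv (fun v => by simp) := ⟨_, rfl⟩
    have hrinj : Function.Injective r := fun f g e => MulEquiv.ext fun v => by
      by_cases hv : v = 1
      · rw [hv, map_one, map_one]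
      · have := congrArg (fun p : Equiv.Perm {v : V // v ≠ 1} => (p ⟨v, hv⟩ : V)) e
        simpa [hr] using this
    have h2 : Nat.card (MulAut V) ≤ Nat.factorial 7 := by
      refine (Nat.card_le_card_of_injective r hrinj).trans ?_
      rw [Nat.card_perm]
      refine Nat.factorial_le ?_
      rw [Nat.card_eq_fintype_card, Fintype.card_subtype_compl, Fintype.card_subtype_eq,
        ← Nat.card_eq_fintype_card]
      omega
    have h3 : Nat.card ρ.range ≤ Nat.card (MulAut V) := Subgroup.card_le_card_group _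
    simp only [Nat.factorial] at h2
    omega
  · intro g
    have hg : g ∈ ρ.ker := hmin _ h ▸ Subgroup.mem_top g
    rw [MonoidHom.mem_ker, hρ] at hg
    have h5 : g * z * g⁻¹ = z := congrArg Subtype.val (congrArg (fun f : MulAut V => f ⟨z, hzV⟩) hg)
    exact (mul_inv_eq_iff_eq_mul.1 h5).symm

end Cfsg.Agent.Chevalley.AltSection
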