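import Cfsg.Agent.Lib.Chevalley.AltSection.Groups
import Cfsg.Agent.Lib.Chevalley.AltSection.Minimal

/-! Alternating sections of groups with a torus whose normalizing automorphisms are those of the
hexagonal lattice. -/

set_option autoImplicit false
set_option linter.unusedSectionVars false
set_option maxRecDepth 100000

namespace Cfsg.Agent.Chevalley.AltSection.RankTwo

variable {G : Type*} [Group G]

/-- The element acts on the subgroup with square one. -/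
def SqFix (g : G) (P : Subgroup G) : Prop := ∀ x ∈ P, g ^ 2 * x * (g ^ 2)⁻¹ = x

/-- The element acts as a root of unity of order six. -/
def RelSix (g : G) (P : Subgroup G) : Prop :=
  ∀ x ∈ P, g ^ 2 * x * (g ^ 2)⁻¹ * x = g * x * g⁻¹

/-- The element acts as a root of unity of order three. -/
def RelThree (g : G) (P : Subgroup G) : Prop :=
  ∀ x ∈ P, g ^ 2 * x * (g ^ 2)⁻¹ * (g * x * g⁻¹) * x = 1

/-- Every normalizing element satisfies one of the three relations on a part of the torus. -/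
def Tri (T : Subgroup G) : Prop :=
  ∀ (g : G) (P : Subgroup G), P ≤ T → (∀ x ∈ P, g * x * g⁻¹ ∈ P) →
    SqFix g P ∨ RelSix g P ∨ RelThree g P

/-- Involutions centralizing a part of the torus with such an element can be moved into the torus. -/
def Cent (T : Subgroup G) : Prop :=
  ∀ (g : G) (P : Subgroup G), P ≤ T → (∀ x ∈ P, g * x * g⁻¹ ∈ P) → ¬ SqFix g P → ¬ RelSix g P →
    (∃ x ∈ P, x ^ 2 ≠ 1 ∧ x ^ 3 ≠ 1) → ∀ z : G, z * z = 1 → (∀ x ∈ P, z * x = x * z) →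
    ∃ u : G, (∀ x ∈ P, u * x * u⁻¹ = x) ∧ u * z * u⁻¹ ∈ T

variable {H : Type*} [Group H] {A : Type*} [Group A] (φ : H →* A)

/-- An element squaring a generator excludes two of the relations. -/
theorem not_sq_six {ι : H →* G} (hι : Function.Injective ι) {g : H} {Q : Subgroup H} {c : A}
    (hc : c ∈ Q.map φ) {ℓ : ℕ} (hℓ : ℓ = 5 ∨ ℓ = 7) (ho : orderOf c = ℓ)
    (hg : φ g * c * (φ g)⁻¹ = c ^ 2) :
    ¬ SqFix (ι g) (Q.map ι) ∧ ¬ RelSix (ι g) (Q.map ι) ∧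
      (RelThree (ι g) (Q.map ι) → c ^ 7 = 1) := by
  obtain ⟨x, hx, rfl⟩ := hc
  have hg2 : φ (g ^ 2 * x * (g ^ 2)⁻¹) = φ x ^ 4 := by
    rw [show g ^ 2 * x * (g ^ 2)⁻¹ = g * (g * x * g⁻¹) * g⁻¹ by
      simp only [pow_two, mul_inv_rev, mul_assoc], map_mul, map_mul, map_mul,
      map_mul, map_inv, hg, ← conj_pow, hg, ← pow_mul]
  have hg1 : φ (g * x * g⁻¹) = φ x ^ 2 := by rw [map_mul, map_mul, map_inv, hg]
  have himg : ι x ∈ Q.map ι := ⟨x, hx, rfl⟩
  refine ⟨fun h => ?_, fun h => ?_, fun h => ?_⟩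
  · have e : g ^ 2 * x * (g ^ 2)⁻¹ = x := hι (by simpa using h _ himg)
    have e' := congrArg φ e
    rw [hg2] at e'
    have := pow_injOn_Iio_orderOf (x := φ x) (by simp only [Set.mem_Iio]; omega)
      (by simp only [Set.mem_Iio]; omega) (e'.trans (pow_one _).symm)
    omega
  · have e : g ^ 2 * x * (g ^ 2)⁻¹ * x = g * x * g⁻¹ := hι (by simpa using h _ himg)
    have e' := congrArg φ e
    rw [map_mul, hg2, hg1, ← pow_succ] at e'
    have e3 : φ x ^ 3 = 1 := by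
      rw [show (4 + 1 : ℕ) = 3 + 2 from rfl, pow_add] at e'
      exact mul_eq_right.1 e'
    have := Nat.le_of_dvd (by norm_num) (orderOf_dvd_of_pow_eq_one e3)
    omega
  · have e : g ^ 2 * x * (g ^ 2)⁻¹ * (g * x * g⁻¹) * x = 1 := hι (by simpa using h _ himg)
    have e' := congrArg φ e
    rw [map_mul, map_mul, hg2, hg1, map_one, ← pow_add, ← pow_succ] at e'
    exact e'

variable [Finite G] {T : Subgroup G} (hφ : Function.Surjective φ)
include hφ

/-- A Sylow subgroup over a cyclic group, moved into the torus, with a normalizing element. -/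
theorem exists_torus_sylow [Finite A] {ι : H →* G} (hι : Function.Injective ι) {ℓ : ℕ}
    [Fact ℓ.Prime] (hidx : ¬ ℓ ∣ T.index) {c a : A} (ho : orderOf c = ℓ)
    (hac : a * c * a⁻¹ = c ^ 2) :
    ∃ (Q : Subgroup H) (y : H) (u : G), IsPGroup ℓ Q ∧ c ∈ Q.map φ ∧
      (∀ x ∈ Q, y * x * y⁻¹ ∈ Q) ∧ φ y * c * (φ y)⁻¹ = c ^ 2 ∧ ∀ x ∈ Q, u * ι x * u⁻¹ ∈ T := by
  classical
  haveI : Finite H := Finite.of_injective ι hι
  obtain ⟨L, hL⟩ : ∃ L, L = (Subgroup.zpowers c).comap φ := ⟨_, rfl⟩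
  obtain ⟨P⟩ : Nonempty (Sylow ℓ L) := inferInstance
  obtain ⟨x, hx⟩ := hφ c
  obtain ⟨h, hh⟩ := hφ a
  have hab : ∀ u ∈ L, ∀ v ∈ L, φ u * φ v = φ v * φ u := by
    intro u hu v hv
    rw [hL, Subgroup.mem_comap, Subgroup.mem_zpowers_iff] at hu hv
    obtain ⟨i, hi⟩ := hu; obtain ⟨j, hj⟩ := hv
    rw [← hi, ← hj, ← zpow_add, ← zpow_add, add_comm]
  have hle : ∀ z ∈ Subgroup.zpowers c, a * z * a⁻¹ ∈ Subgroup.zpowers c := by
    intro z hz
    obtain ⟨j, rfl⟩ := Subgroup.mem_zpowers_iff.1 hz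
    rw [← conj_zpow, hac]
    exact zpow_mem (pow_mem (Subgroup.mem_zpowers c) _) j
  have hnorm : a ∈ Subgroup.normalizer (Subgroup.zpowers c : Set A) :=
    Subgroup.mem_normalizer_fintype hle
  obtain ⟨l, hl, hlP⟩ := frattini P (h := h) fun z => by
    simp only [hL, Subgroup.mem_comap, map_mul, map_inv, hh]
    exact Subgroup.mem_normalizer_iff.1 hnorm (φ z)
  obtain ⟨u, -, hu⟩ := conj_into hidx (C := ⊤) le_top le_top
    ((P.2.map L.subtype).map ι : IsPGroup ℓ (((P : Subgroup L).map L.subtype).map ι))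
  refine ⟨(P : Subgroup L).map L.subtype, l * h, u, P.2.map _,
    hx ▸ mem_map_sylow φ hab P (hL ▸ by simp [hx]) (hx ▸ ho), hlP, ?_,
    fun z hz => hu _ ⟨z, hz, rfl⟩⟩
  rw [hL, Subgroup.mem_comap, Subgroup.mem_zpowers_iff] at hl
  obtain ⟨j, hj⟩ := hl
  rw [map_mul, hh, ← hj, show c ^ j * a * c * (c ^ j * a)⁻¹ = c ^ j * (a * c * a⁻¹) * (c ^ j)⁻¹ by
    group, hac]
  group

/-- No element of order five squared by conjugation. -/
theorem no_five [Finite A] {ι : H →* G} (hι : Function.Injective ι) (hidx : ¬ 5 ∣ T.index)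
    (htri : Tri T) {c a : A} (ho : orderOf c = 5) (hac : a * c * a⁻¹ = c ^ 2) : False := by
  classical
  haveI : Fact (Nat.Prime 5) := ⟨by norm_num⟩
  obtain ⟨Q, y, u, -, hcQ, hyQ, hyc, huQ⟩ := exists_torus_sylow φ hφ hι hidx ho hac
  obtain ⟨ι', hι'⟩ : ∃ ι' : H →* G, ι' = (MulAut.conj u).toMonoidHom.comp ι := ⟨_, rfl⟩
  have hinj : Function.Injective ι' := hι' ▸ (MulAut.conj u).injective.comp hι
  obtain ⟨h1, h2, h3⟩ := not_sq_six φ hinj (g := y) hcQ (Or.inl rfl) ho hyc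
  rcases htri (ι' y) (Q.map ι') (by rintro _ ⟨x, hx, rfl⟩; exact hι' ▸ huQ x hx)
    (by rintro _ ⟨x, hx, rfl⟩; exact ⟨_, hyQ x hx, by simp⟩) with h | h | h
  · exact h1 h
  · exact h2 h
  · have := orderOf_dvd_of_pow_eq_one (h3 h)
    rw [ho] at this
    norm_num at this

omit hφ

/-- No section isomorphic to the alternating group of degree eight. -/
theorem no_eight {ι : H →* G} (hι : Function.Injective ι) {ψ : H →* alternatingGroup (Fin 8)}
    (hψ : Function.Surjective ψ) (hidx : ¬ 7 ∣ T.index) (htri : Tri T) (hcent : Cent T)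
    (hrank : ∀ V : Subgroup G, (∀ x ∈ V, x * x = 1) → Nat.card V < 16) : False := by
  classical
  haveI : Fact (Nat.Prime 7) := ⟨by norm_num⟩
  haveI : Finite H := Finite.of_injective ι hι
  obtain ⟨H0, htop, hmin⟩ := exists_minimal ψ hψ
  obtain ⟨ψ0, hψ0⟩ : ∃ ψ0, ψ0 = ψ.comp H0.subtype := ⟨_, rfl⟩
  obtain ⟨ι0, hι0⟩ : ∃ ι0, ι0 = ι.comp H0.subtype := ⟨_, rfl⟩
  have hinj0 : Function.Injective ι0 := hι0 ▸ hι.comp Subtype.val_injective
  have hsurj0 : Function.Surjective ψ0 := by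
    intro a
    obtain ⟨x, hx, hxa⟩ := (htop ▸ Subgroup.mem_top a : a ∈ H0.map ψ)
    exact ⟨⟨x, hx⟩, by rw [hψ0]; exact hxa⟩
  obtain ⟨z, hz1, hz2, hzc⟩ := exists_central hsurj0 (hψ0 ▸ hmin) fun V hV => by
    rw [Nat.card_congr (V.equivMapOfInjective ι0 hinj0).toEquiv]
    exact hrank _ (by rintro _ ⟨x, hx, rfl⟩; rw [← map_mul, hV x hx, map_one])
  obtain ⟨c, a, ho, hac⟩ : ∃ c a : alternatingGroup (Fin 8), orderOf c = 7 ∧ a * c * a⁻¹ = c ^ 2 :=
    ⟨⟨c[0, 1, 2, 3, 4, 5, 6], Equiv.Perm.mem_alternatingGroup.2 (by decide)⟩,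
      ⟨c[1, 2, 4] * c[3, 6, 5], Equiv.Perm.mem_alternatingGroup.2 (by decide)⟩,
      by rw [Subgroup.orderOf_mk]; exact orderOf_eq_prime (by decide) (by decide),
      Subtype.ext (by decide)⟩
  obtain ⟨Q, y, u, -, hcQ, hyQ, hyc, huQ⟩ := exists_torus_sylow ψ0 hsurj0 hinj0 hidx ho hac
  obtain ⟨ι1, hι1⟩ : ∃ ι1 : H0 →* G, ι1 = (MulAut.conj u).toMonoidHom.comp ι0 := ⟨_, rfl⟩
  have hinj1 : Function.Injective ι1 := hι1 ▸ (MulAut.conj u).injective.comp hinj0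
  have hQT : Q.map ι1 ≤ T := by rintro _ ⟨x, hx, rfl⟩; exact hι1 ▸ huQ x hx
  have hnorm : ∀ w ∈ Q.map ι1, ι1 y * w * (ι1 y)⁻¹ ∈ Q.map ι1 := by
    rintro _ ⟨x, hx, rfl⟩; exact ⟨_, hyQ x hx, by simp⟩
  obtain ⟨h1, h2, -⟩ := not_sq_six ψ0 hinj1 (g := y) hcQ (Or.inr rfl) ho hyc
  have hex : ∃ w ∈ Q.map ι1, w ^ 2 ≠ 1 ∧ w ^ 3 ≠ 1 := by
    obtain ⟨x, hx, rfl⟩ := hcQ
    have key : ∀ k, 0 < k → k < 7 → ι1 x ^ k ≠ 1 := by
      intro k hk hk' e
      have e' : ψ0 x ^ k = 1 := by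
        rw [← map_pow, hinj1 (by rw [map_pow, e, map_one] : ι1 (x ^ k) = ι1 1), map_one]
      have := Nat.le_of_dvd hk (orderOf_dvd_of_pow_eq_one e')
      omega
    exact ⟨ι1 x, ⟨x, hx, rfl⟩, key 2 (by norm_num) (by norm_num), key 3 (by norm_num) (by norm_num)⟩
  obtain ⟨v, hvQ, hvz⟩ := hcent (ι1 y) _ hQT hnorm h1 h2 hex (ι1 z)
    (by rw [← map_mul, hz2, map_one])
    (by rintro _ ⟨x, -, rfl⟩; rw [← map_mul, ← map_mul, hzc])
  obtain ⟨ι2, hι2⟩ : ∃ ι2 : H0 →* G, ι2 = (MulAut.conj v).toMonoidHom.comp ι1 := ⟨_, rfl⟩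
  have hinj2 : Function.Injective ι2 := hι2 ▸ (MulAut.conj v).injective.comp hinj1
  obtain ⟨R, hR⟩ : ∃ R, R = Q ⊔ Subgroup.zpowers z := ⟨_, rfl⟩
  have hRT : R.map ι2 ≤ T := by
    rw [hR, Subgroup.map_sup, MonoidHom.map_zpowers]
    refine sup_le ?_ ((Subgroup.zpowers_le (H := T)).2 (hι2 ▸ hvz))
    rintro _ ⟨x, hx, rfl⟩
    rw [hι2]
    show v * ι1 x * v⁻¹ ∈ T
    rw [hvQ _ ⟨x, hx, rfl⟩]
    exact hQT ⟨x, hx, rfl⟩
  have hyR : ∀ w ∈ R, y * w * y⁻¹ ∈ R := by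
    have : R ≤ R.comap (MulAut.conj y).toMonoidHom := by
      rw [hR]
      refine sup_le (fun w hw => Subgroup.mem_sup_left (hyQ w hw)) ((Subgroup.zpowers_le).2 ?_)
      show y * z * y⁻¹ ∈ Q ⊔ Subgroup.zpowers z
      rw [← hzc y, mul_inv_cancel_right]
      exact Subgroup.mem_sup_right (Subgroup.mem_zpowers z)
    exact fun w hw => this hw
  obtain ⟨h1', h2', -⟩ := not_sq_six ψ0 hinj2 (g := y)
    (Subgroup.map_mono (hR ▸ le_sup_left) hcQ) (Or.inr rfl) ho hyc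
  rcases htri (ι2 y) (R.map ι2) hRT
    (by rintro _ ⟨x, hx, rfl⟩; exact ⟨_, hyR x hx, by simp⟩) with h | h | h
  · exact h1' h
  · exact h2' h
  have e := h (ι2 z) ⟨z, hR ▸ Subgroup.mem_sup_right (Subgroup.mem_zpowers z), rfl⟩
  rw [← map_pow, ← map_inv, ← map_inv, ← map_mul, ← map_mul, ← map_mul, ← map_mul, ← map_mul,
    ← map_mul] at e
  have e' : y ^ 2 * z * (y ^ 2)⁻¹ * (y * z * y⁻¹) * z = 1 := hinj2 (e.trans (map_one ι2).symm)
  have fix : ∀ w : H0, w * z * w⁻¹ = z := fun w => by rw [← hzc w, mul_inv_cancel_right]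
  rw [fix, fix, hz2, one_mul] at e'
  exact hz1 e'

/-- The bound for the alternating sections of a subgroup. -/
theorem alt_bound_six {r : ℕ} {ι : H →* G} (hι : Function.Injective ι)
    {φ : H →* alternatingGroup (Fin r)} (hφ : Function.Surjective φ) (hidx : ¬ 5 ∣ T.index)
    (htri : Tri T) : r ≤ 6 := by
  classical
  by_contra hr
  obtain ⟨f, hf⟩ : ∃ f : Equiv.Perm (Fin 7) →* Equiv.Perm (Fin r),
      f = Equiv.Perm.viaEmbeddingHom (Fin.castLEEmb (by omega)) := ⟨_, rfl⟩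
  have hinj : Function.Injective f := hf ▸ Equiv.Perm.viaEmbeddingHom_injective _
  have hsign : ∀ x, Equiv.Perm.sign x = 1 → f x ∈ alternatingGroup (Fin r) := fun x hx => by
    rw [Equiv.Perm.mem_alternatingGroup, hf, Equiv.Perm.viaEmbeddingHom_apply,
      Equiv.Perm.viaEmbedding, Equiv.Perm.sign_extendDomain, hx]
  haveI : Fact (Nat.Prime 5) := ⟨by norm_num⟩
  refine no_five φ hφ hι hidx htri (c := ⟨f c[0, 1, 2, 3, 4], hsign _ (by decide)⟩)
    (a := ⟨f (c[1, 2, 4, 3] * c[5, 6]), hsign _ (by decide)⟩) ?_ (Subtype.ext ?_)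
  · rw [Subgroup.orderOf_mk, orderOf_injective f hinj]
    exact orderOf_eq_prime (by decide) (by decide)
  · show f _ * f _ * (f _)⁻¹ = f _ ^ 2
    rw [← map_inv, ← map_mul, ← map_mul, ← map_pow]
    exact congrArg f (by decide)

/-- The weaker bound. -/
theorem alt_bound_seven {r : ℕ} {ι : H →* G} (hι : Function.Injective ι)
    {φ : H →* alternatingGroup (Fin r)} (hφ : Function.Surjective φ) (hidx : ¬ 7 ∣ T.index)
    (htri : Tri T) (hcent : Cent T)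
    (hrank : ∀ V : Subgroup G, (∀ x ∈ V, x * x = 1) → Nat.card V < 16) : r ≤ 7 := by
  classical
  by_contra hr
  obtain ⟨f, hf⟩ : ∃ f : Equiv.Perm (Fin 8) →* Equiv.Perm (Fin r),
      f = Equiv.Perm.viaEmbeddingHom (Fin.castLEEmb (by omega)) := ⟨_, rfl⟩
  obtain ⟨j, hj⟩ : ∃ j : alternatingGroup (Fin 8) →* alternatingGroup (Fin r),
      j = (f.comp (alternatingGroup (Fin 8)).subtype).codRestrict _ (fun x => by
        rw [Equiv.Perm.mem_alternatingGroup, hf]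
        show Equiv.Perm.sign (Equiv.Perm.viaEmbeddingHom _ (x : Equiv.Perm (Fin 8))) = 1
        rw [Equiv.Perm.viaEmbeddingHom_apply, Equiv.Perm.viaEmbedding,
          Equiv.Perm.sign_extendDomain]
        exact Equiv.Perm.mem_alternatingGroup.1 x.2) := ⟨_, rfl⟩
  have hjinj : Function.Injective j := fun x y e => by
    rw [hj] at e
    exact Subtype.ext ((hf ▸ Equiv.Perm.viaEmbeddingHom_injective _ : Function.Injective f)
      (congrArg Subtype.val e))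
  obtain ⟨H1, hH1⟩ : ∃ H1, H1 = j.range.comap φ := ⟨_, rfl⟩
  have hmem : ∀ x : H1, φ x ∈ j.range := fun x =>
    Subgroup.mem_comap.1 (show (x : H) ∈ j.range.comap φ from hH1 ▸ x.2)
  obtain ⟨ψ, hψ⟩ : ∃ ψ : H1 →* alternatingGroup (Fin 8), ψ =
      (MonoidHom.ofInjective hjinj).symm.toMonoidHom.comp
        ((φ.comp H1.subtype).codRestrict j.range hmem) := ⟨_, rfl⟩
  refine no_eight (ι := ι.comp H1.subtype) (hι.comp Subtype.val_injective) (ψ := ψ) ?_ hidx htri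
    hcent hrank
  rw [hψ]
  refine (MonoidHom.ofInjective hjinj).symm.surjective.comp fun b => ?_
  obtain ⟨x, hx⟩ := hφ b.1
  exact ⟨⟨x, by rw [hH1, Subgroup.mem_comap, hx]; exact b.2⟩, Subtype.ext hx⟩

end Cfsg.Agent.Chevalley.AltSection.RankTwo
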