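import Cfsg.Agent.Lib.Chevalley.AltSection.WeylG2
import Cfsg.Agent.Lib.Chevalley.AltSection.WordAct
import Cfsg.Agent.Lib.Chevalley.AltSection.RankTwo
import Cfsg.Agent.Lib.Chevalley.AltSection.F4
import Cfsg.Agent.Lib.Chevalley.Types.OrderG2
import Cfsg.Agent.Lib.Chevalley.Types.CoxG2
import Cfsg.Agent.Lib.Chevalley.Order

/-! Alternating sections of the groups of type G2. -/

set_option autoImplicit false
set_option linter.unusedSectionVars false
set_option maxRecDepth 100000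

namespace Cfsg.Agent.Chevalley.AltSection.G2

open Cfsg.Lie Cfsg.Agent.Chevalley Cfsg.Agent.Chevalley.Table Cfsg.Agent.Chevalley.Cert
  Cfsg.Agent.Chevalley.Group Cfsg.Agent.Chevalley.Unip Cfsg.Agent.Chevalley.Borel
  Cfsg.Agent.Chevalley.Weyl Cfsg.Agent.Chevalley.WeylEnum Cfsg.Agent.Chevalley.Order

abbrev hC : Certified chevG2 Data.G2.tab := Types.G2.certified

variable {K : Type*} [Field K] [Fintype K]

/-- The torus in the group. -/
noncomputable def torus (K : Type*) [Field K] : Subgroup (chevG2.group K) :=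
  (chevG2.diagonalSubgroup K).subgroupOf (chevG2.group K)

theorem index_eq : ∃ S : ℕ, S = (torus K).index ∧ S =
    Fintype.card K ^ 6 * ((∑ i ∈ Finset.range 2, Fintype.card K ^ i) *
      ∑ i ∈ Finset.range 6, Fintype.card K ^ i) ∧
    Nat.card (chevG2.diagonalSubgroup K) = (Fintype.card K - 1) ^ 2 := by
  classical
  obtain ⟨Q, hQ⟩ : ∃ Q, Q = Fintype.card K := ⟨_, rfl⟩
  have h2 : 2 ≤ Q := hQ ▸ Fintype.one_lt_card
  have hg : (∏ i, Nat.gcd (Fintype.card K - 1) (Types.OrderG2.ed i)) = 1 := by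
    simp [Types.OrderG2.ed, Fin.prod_univ_two]
  have hT := Types.OrderG2.card_H K
  rw [hg, one_mul] at hT
  have hc := Types.OrderG2.card_group K
  rw [hg, one_mul, ← Subgroup.card_mul_index (torus K), torus,
    Nat.card_congr (Subgroup.subgroupOfEquivOfLe (H_le_group hC)).toEquiv, hT, ← hQ] at hc
  refine ⟨_, rfl, ?_, hT⟩
  obtain ⟨S, hS⟩ : ∃ S : ℕ → ℕ, S = fun d => ∑ i ∈ Finset.range d, Q ^ i := ⟨_, rfl⟩
  have hgs : ∀ d, Q ^ d - 1 = S d * (Q - 1) := fun d => by
    rw [hS]; exact (geom_sum_mul_of_one_le (by omega) d).symm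
  simp only [List.map_cons, List.map_nil, List.prod_cons, List.prod_nil, mul_one, hgs] at hc
  have e : (torus K).index = Q ^ 6 * (S 2 * S 6) :=
    Nat.eq_of_mul_eq_mul_left (pow_pos (by omega : 0 < Q - 1) 2) (hc.trans (by ring))
  rw [e, hS, hQ]

theorem torus_index {ℓ : ℕ} [Fact ℓ.Prime] (hQ : (Fintype.card K : ZMod ℓ) = 1)
    (hℓ : ¬ ℓ ∣ 2 * 6) : ¬ ℓ ∣ (torus K).index := by
  intro h
  obtain ⟨S, hS, hS', -⟩ := index_eq (K := K)
  have hz := (ZMod.natCast_eq_zero_iff _ _).2 h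
  rw [← hS, hS'] at hz
  simp only [Nat.cast_mul, Nat.cast_pow, Nat.cast_sum, hQ, one_pow, Finset.sum_const,
    Finset.card_range, nsmul_eq_mul, mul_one, one_mul] at hz
  refine hℓ ((ZMod.natCast_eq_zero_iff _ _).1 ?_)
  push_cast
  linear_combination hz

theorem monomial_index (hQ : Fintype.card K % 4 = 1) :
    ¬ 2 ∣ ((chevG2.monomialSubgroup K).subgroupOf (chevG2.group K)).index := by
  classical
  obtain ⟨S, hS, hS', hT⟩ := index_eq (K := K)
  obtain ⟨f, hf, hk, -⟩ := Types.CoxG2.exists_hom_N K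
  have hle : chevG2.diagonalSubgroup K ≤ chevG2.monomialSubgroup K := le_sup_left
  have hrel : (chevG2.diagonalSubgroup K).relIndex (chevG2.monomialSubgroup K) = 12 := by
    rw [Subgroup.relIndex, ← hk, Subgroup.index_ker, MonoidHom.range_eq_top.2 hf, Subgroup.card_top,
      Types.CoxG2.card_eq]
  have h12 : S = 12 * ((chevG2.monomialSubgroup K).subgroupOf (chevG2.group K)).index := by
    rw [hS, torus, ← Subgroup.relIndex, ← Subgroup.relIndex,
      ← Subgroup.relIndex_mul_relIndex _ _ _ hle (N_le_group hC), hrel]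
  intro h
  obtain ⟨k, hk'⟩ := h
  rw [hk'] at h12
  rw [hS'] at h12
  obtain ⟨Q, hQd⟩ : ∃ Q, Q = Fintype.card K := ⟨_, rfl⟩
  rw [← hQd] at h12 hQ
  obtain ⟨j, rfl⟩ : ∃ j, Q = 4 * j + 1 := ⟨Q / 4, by omega⟩
  simp only [Finset.sum_range_succ, Finset.sum_range_zero, zero_add] at h12
  have h4 : (4 * j + 1) ^ 6 * ((2 * j + 1) ^ 2 *
      ((4 * j + 1) ^ 4 + (4 * j + 1) ^ 2 + 1)) = 2 * (3 * k) := by
    refine Nat.eq_of_mul_eq_mul_left (show 0 < 4 by norm_num) ?_
    calc _ = (4 * j + 1) ^ 6 * (((4 * j + 1) ^ 0 + (4 * j + 1) ^ 1) * ((4 * j + 1) ^ 0 +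
          (4 * j + 1) ^ 1 + (4 * j + 1) ^ 2 + (4 * j + 1) ^ 3 + (4 * j + 1) ^ 4 +
          (4 * j + 1) ^ 5)) := by ring
      _ = _ := by rw [h12]; ring
  have hev := congrArg (· % 2) h4
  simp [Nat.mul_mod, Nat.pow_mod, Nat.add_mod] at hev

/-- Conjugations inside the torus satisfy one of the three relations. -/
theorem tri : RankTwo.Tri (torus K) := by
  intro g P hP hgP
  obtain ⟨S, hSd⟩ : ∃ S : Set (GL chevG2.Idx K), S = Subtype.val '' (P : Set (chevG2.group K)) :=
    ⟨_, rfl⟩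
  have hS : ∀ z ∈ S, z ∈ chevG2.diagonalSubgroup K := by
    rw [hSd]; rintro _ ⟨x, hx, rfl⟩; exact Subgroup.mem_subgroupOf.1 (hP hx)
  have hgS : ∀ z ∈ S, (g : GL chevG2.Idx K) * z * (g : GL chevG2.Idx K)⁻¹ ∈ S := by
    rw [hSd]; rintro _ ⟨x, hx, rfl⟩; exact ⟨_, hgP x hx, rfl⟩
  obtain ⟨-, -, -, L, hL, -, -, -, hA⟩ := WordAct.exists_acts hC g.2 hS hgS
  have himg : ∀ x ∈ P, (x : GL chevG2.Idx K) ∈ S := fun x hx => hSd ▸ ⟨x, hx, rfl⟩
  rcases WeylG2.trichotomy hL with h | h | h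
  · exact Or.inl fun x hx => Subtype.ext (WordAct.sq_fix hC hS hA h _ (himg x hx))
  · refine Or.inr (Or.inl fun x hx => Subtype.ext ?_)
    have e := WordAct.rel_apply hC hS hL hA h _ (himg x hx)
    rw [zpow_neg_one, mul_assoc, H_comm hC (inv_mem (hS _ (hgS _ (himg x hx))))
      (hS _ (himg x hx)), ← mul_assoc] at e
    exact mul_inv_eq_one.1 e
  · refine Or.inr (Or.inr fun x hx => Subtype.ext ?_)
    have e := WordAct.rel_apply hC hS hL hA h _ (himg x hx)
    rw [zpow_one] at e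
    exact e

/-- Involutions centralizing a part of the torus can be moved into the torus. -/
theorem cent (hodd : ¬ 2 ∣ Nat.card K) : RankTwo.Cent (torus K) := by
  intro g P hP hgP hsq hsix hex z hz2 hzc
  obtain ⟨S, hSd⟩ : ∃ S : Set (GL chevG2.Idx K), S = Subtype.val '' (P : Set (chevG2.group K)) :=
    ⟨_, rfl⟩
  have hS : ∀ z ∈ S, z ∈ chevG2.diagonalSubgroup K := by
    rw [hSd]; rintro _ ⟨x, hx, rfl⟩; exact Subgroup.mem_subgroupOf.1 (hP hx)
  have hgS : ∀ z ∈ S, (g : GL chevG2.Idx K) * z * (g : GL chevG2.Idx K)⁻¹ ∈ S := by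
    rw [hSd]; rintro _ ⟨x, hx, rfl⟩; exact ⟨_, hgP x hx, rfl⟩
  have hzS : ∀ x ∈ S, (z : GL chevG2.Idx K) * x = x * z := by
    rw [hSd]; rintro _ ⟨x, hx, rfl⟩; exact congrArg Subtype.val (hzc x hx)
  have hzS' : ∀ x ∈ S, (z : GL chevG2.Idx K) * x * (z : GL chevG2.Idx K)⁻¹ = x := fun x hx => by
    rw [hzS x hx, mul_inv_cancel_right]
  obtain ⟨-, -, -, L, hL, -, -, -, hA⟩ := WordAct.exists_acts hC g.2 hS hgS
  obtain ⟨v, hv, c, M, hM, u, hu, hzform, hB⟩ :=
    WordAct.exists_acts hC z.2 hS fun x hx => (hzS' x hx).symm ▸ hx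
  have himg : ∀ x ∈ P, (x : GL chevG2.Idx K) ∈ S := fun x hx => hSd ▸ ⟨x, hx, rfl⟩
  have hL3 : WeylG2.Rel 1 1 L := by
    rcases WeylG2.trichotomy hL with h | h | h
    · exact absurd (fun x hx => Subtype.ext (WordAct.sq_fix hC hS hA h _ (himg x hx))) hsq
    · refine absurd (fun x hx => Subtype.ext ?_) hsix
      have e := WordAct.rel_apply hC hS hL hA h _ (himg x hx)
      rw [zpow_neg_one, mul_assoc, H_comm hC (inv_mem (hS _ (hgS _ (himg x hx))))
        (hS _ (himg x hx)), ← mul_assoc] at e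
      exact mul_inv_eq_one.1 e
    · exact h
  obtain ⟨x, hx, hx2, hx3⟩ := hex
  have hfix2 : (z : GL chevG2.Idx K) ^ 2 * x * ((z : GL chevG2.Idx K) ^ 2)⁻¹ = x := by
    rw [pow_two, show (z : GL chevG2.Idx K) * z = 1 from congrArg Subtype.val hz2, one_mul, inv_one,
      mul_one]
  rcases WeylG2.pair hL hM hL3 with h | h | h | h | h
  · -- the monomial part of the involution is trivial
    obtain ⟨t, ht, hzt⟩ := WordAct.mem_B_of_word hC hv hM hu (fun r hr => h r hr)
    rw [hzt] at hzform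
    obtain ⟨w, hw, hwS, hwz⟩ := WordAct.invol_to_torus hC hodd hv ht
      (hzform ▸ congrArg Subtype.val hz2) hS (fun x hx => hzform ▸ hzS x hx)
    have hwG : w ∈ chevG2.group K :=
      (Subgroup.zpowers_le.2 (B_le_group hC ((le_sup_left : chevG2.posUnipotent K ≤
        chevG2.borelSubgroup K) hv))) hw
    refine ⟨⟨w, hwG⟩, fun y hy => Subtype.ext (hwS _ (himg y hy)), Subgroup.mem_subgroupOf.2 ?_⟩
    show w * (z : GL chevG2.Idx K) * w⁻¹ ∈ _
    rw [hzform, hwz]; exact ht
  · exact absurd (Subtype.ext (WordAct.neg_fixed hC hS hB hM h (himg x hx) (hzS' _ (himg x hx)))) hx2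
  · have e := WordAct.rel_apply hC hS hM hB h _ (himg x hx)
    rw [hfix2, hzS' _ (himg x hx), zpow_neg_one, mul_inv_cancel, one_mul] at e
    exact absurd (Subtype.ext (by rw [SubgroupClass.coe_pow, e, one_pow]; rfl)) hx2
  · have e := WordAct.rel_apply hC hS hM hB h _ (himg x hx)
    rw [hfix2, hzS' _ (himg x hx), zpow_one] at e
    exact absurd (Subtype.ext (by
      rw [SubgroupClass.coe_pow, pow_succ, pow_two, e]; rfl)) hx3
  · refine absurd (fun y hy => Subtype.ext ?_) hsq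
    have key := WordAct.swap_fixed hC hS hL hA hB hM h hzS'
    have e := key _ (himg y hy)
    have e1 : (g : GL chevG2.Idx K) * y * (g : GL chevG2.Idx K)⁻¹ = y := by
      calc (g : GL chevG2.Idx K) * y * (g : GL chevG2.Idx K)⁻¹
          = (g : GL chevG2.Idx K)⁻¹ * ((g : GL chevG2.Idx K) ^ 2 * y *
              ((g : GL chevG2.Idx K) ^ 2)⁻¹) * g := by group
        _ = y := by rw [e]; group
    exact e.trans e1

/-- The sign parameters. -/
noncomputable def sgn (K : Type*) [Field K] (σ : Fin 2 → Bool) : ℕ → Kˣ := fun i =>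
  if h : i < 2 then (if σ ⟨i, h⟩ then -1 else 1) else 1

/-- An involution of the torus has sign parameters. -/
theorem invol_sgn {x : GL chevG2.Idx K} (hx : x ∈ chevG2.diagonalSubgroup K) (h2 : x * x = 1) :
    ∃ σ, x = tor chevG2 (sgn K σ) := by
  classical
  obtain ⟨d, rfl⟩ := (mem_H_iff hC).1 hx
  rw [tor_mul, ← tor_one (D := chevG2)] at h2
  have e := fun j (hj : j < chevG2.rank) => torChar_eq hC h2 (hC.simple_lt hj)
  have v00 : chevG2.cartan 0 (chevG2.simple 0) = 2 := by decide +kernel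
  have v10 : chevG2.cartan 1 (chevG2.simple 0) = -1 := by decide +kernel
  have v01 : chevG2.cartan 0 (chevG2.simple 1) = -3 := by decide +kernel
  have v11 : chevG2.cartan 1 (chevG2.simple 1) = 2 := by decide +kernel
  have e0 := e 0 (by rw [WeylG2.rank_eq]; norm_num)
  have e1 := e 1 (by rw [WeylG2.rank_eq]; norm_num)
  simp only [torChar, WeylG2.rank_eq, Finset.prod_range_succ, Finset.prod_range_zero, one_mul,
    Pi.mul_apply, Pi.one_apply, one_zpow, v00, v10, v01, v11] at e0 e1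
  obtain ⟨a, ha⟩ : ∃ a, a = d 0 * d 0 := ⟨_, rfl⟩
  obtain ⟨b, hb⟩ : ∃ b, b = d 1 * d 1 := ⟨_, rfl⟩
  rw [← ha, ← hb, zpow_neg_one, mul_inv_eq_one, zpow_two] at e0
  rw [← ha, ← hb, ← e0] at e1
  have ha1 : a = 1 := by
    have : (a : Kˣ) ^ (-3 : ℤ) * (a * a) ^ (2 : ℤ) = a := by
      rw [← pow_two, ← zpow_natCast, ← zpow_mul, ← zpow_add]
      norm_num
    exact this.symm.trans e1
  have hb1 : b = 1 := by rw [← e0, ha1, one_mul]
  have sq : ∀ i, i < 2 → d i = 1 ∨ d i = -1 := fun i hi => by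
    have : d i * d i = 1 := by
      interval_cases i
      · exact ha ▸ ha1
      · exact hb ▸ hb1
    rcases mul_self_eq_one_iff.1 (congrArg Units.val this : (d i : K) * d i = 1) with h | h
    · exact Or.inl (Units.ext h)
    · exact Or.inr (Units.ext h)
  refine ⟨fun i => decide (d i ≠ 1), dg_congr fun r _ => Finset.prod_congr rfl fun i hi => ?_⟩
  rw [Finset.mem_range, WeylG2.rank_eq] at hi
  congr 1
  simp only [sgn, dif_pos hi]
  by_cases h1 : d i = 1
  · simp [h1]
  · rw [if_pos (by simpa using h1)]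
    exact (sq i hi).resolve_left h1

/-- No elementary subgroup of order sixteen. -/
theorem rank_bound (hQ : Fintype.card K % 4 = 1) (hneg : (-1 : Kˣ) ≠ 1) (V : Subgroup (chevG2.group K))
    (hV : ∀ x ∈ V, x * x = 1) : Nat.card V < 16 := by
  classical
  haveI : Finite (chevG2.group K) := Finite.of_injective _ Subtype.val_injective
  haveI : Fact (Nat.Prime 2) := ⟨Nat.prime_two⟩
  have hVp : IsPGroup 2 V := fun x => ⟨1, Subtype.ext (by rw [pow_one, pow_two]; exact hV _ x.2)⟩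
  obtain ⟨u, -, hu⟩ := conj_into (monomial_index hQ) (C := ⊤) le_top le_top hVp
  obtain ⟨f, hf⟩ : ∃ f : V →* GL chevG2.Idx K,
      f = (chevG2.group K).subtype.comp ((MulAut.conj u).toMonoidHom.comp V.subtype) := ⟨_, rfl⟩
  have hfinj : Function.Injective f := hf ▸
    Subtype.val_injective.comp ((MulAut.conj u).injective.comp Subtype.val_injective)
  obtain ⟨E, hEd⟩ : ∃ E, E = f.range := ⟨_, rfl⟩
  have hcardE : Nat.card E = Nat.card V :=
    hEd ▸ (Nat.card_congr (MonoidHom.ofInjective hfinj).toEquiv).symm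
  have hEN : ∀ x ∈ E, x ∈ chevG2.monomialSubgroup K := by
    rw [hEd, hf]; rintro _ ⟨x, rfl⟩; exact Subgroup.mem_subgroupOf.1 (hu _ x.2)
  have hE2 : ∀ x ∈ E, x * x = 1 := by
    rw [hEd]; rintro _ ⟨x, rfl⟩; rw [← map_mul, show x * x = 1 from Subtype.ext (hV _ x.2), map_one]
  have hcomm : ∀ x ∈ E, ∀ y ∈ E, x * y = y * x := fun x hx y hy => by
    rw [← inv_eq_of_mul_eq_one_right (hE2 _ (mul_mem hx hy)), mul_inv_rev,
      inv_eq_of_mul_eq_one_right (hE2 x hx), inv_eq_of_mul_eq_one_right (hE2 y hy)]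
  have hex : ∀ n : E, ∃ e ∈ WeylG2.words, ∃ (c : ℕ → Kˣ) (L : List ℕ), (∀ i ∈ L, i < chevG2.rank) ∧
      (n : GL chevG2.Idx K) = tor chevG2 c * nL hC K L ∧ Eqv chevG2 L e := fun n => by
    obtain ⟨c, L, hL, h⟩ := (mem_N_iff hC).1 (hEN _ n.2)
    obtain ⟨e, he, hLe⟩ := WeylG2.cover L hL
    exact ⟨e, he, c, L, hL, h, hLe⟩
  choose w hw c L hL hn hLw using hex
  -- the elements of the torus
  obtain ⟨R, hR⟩ : ∃ R : Finset (GL chevG2.Idx K),
      R = ((Finset.univ : Finset (Fin 2 → Bool)).image fun σ => tor chevG2 (sgn K σ)).filter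
        fun x => x ∈ E := ⟨_, rfl⟩
  have hfib : ∀ e, (Finset.univ.filter fun n : E => w n = e).card ≤ R.card := by
    intro e
    rcases (Finset.univ.filter fun n : E => w n = e).eq_empty_or_nonempty with h | ⟨n0, h0⟩
    · rw [h]; exact Nat.zero_le _
    refine Finset.card_le_card_of_injOn (fun n : E => (n : GL chevG2.Idx K) * (n0 : GL chevG2.Idx K)⁻¹)
      ?_ fun a _ b _ hab => Subtype.ext (mul_right_cancel hab)
    intro n hn'
    simp only [Finset.coe_filter, Finset.mem_univ, true_and, Set.mem_setOf_eq, Finset.mem_filter] at hn' h0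
    obtain ⟨d, hd⟩ := nL_eq_tor_mul (F := K) hC (hL n) (hL n0)
      (fun r hr => ((hLw n r hr).trans (by rw [hn', h0])).trans (hLw n0 r hr).symm)
    have hmemE : (n : GL chevG2.Idx K) * (n0 : GL chevG2.Idx K)⁻¹ ∈ E := mul_mem n.2 (inv_mem n0.2)
    have hH : (n : GL chevG2.Idx K) * (n0 : GL chevG2.Idx K)⁻¹ ∈ chevG2.diagonalSubgroup K := by
      rw [hn n, hn n0, hd, mul_inv_rev, show tor chevG2 (c n) * (tor chevG2 d * nL hC K (L n0)) *
        ((nL hC K (L n0))⁻¹ * (tor chevG2 (c n0))⁻¹) =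
        tor chevG2 (c n) * tor chevG2 d * (tor chevG2 (c n0))⁻¹ by group]
      exact mul_mem (mul_mem (tor_mem_H hC _) (tor_mem_H hC _)) (inv_mem (tor_mem_H hC _))
    obtain ⟨σ, hσ⟩ := invol_sgn hH (hE2 _ hmemE)
    rw [hR, Finset.mem_coe, Finset.mem_filter]
    exact ⟨Finset.mem_image.2 ⟨σ, Finset.mem_univ _, hσ.symm⟩, hmemE⟩
  have hbound : ∀ W : List (List ℕ), (∀ n, w n ∈ W) → Nat.card E ≤ R.card * W.length := by
    intro W hW
    rw [Nat.card_eq_fintype_card]
    refine (Finset.card_le_mul_card_image_of_maps_to (f := w) (t := W.toFinset)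
      (fun n _ => List.mem_toFinset.2 (hW n)) R.card (fun e _ => hfib e)).trans ?_
    exact Nat.mul_le_mul_left _ W.toFinset_card_le
  have hR4 : R.card ≤ 4 := by
    rw [hR]
    exact (Finset.card_filter_le _ _).trans (Finset.card_image_le.trans (by decide))
  rw [← hcardE]
  by_cases hall : ∀ n, WeylG2.eqB (w n) [] = true ∨ WeylG2.negB (w n) = true
  · have := hbound (WeylG2.words.filter fun e => WeylG2.eqB e [] || WeylG2.negB e) fun n =>
      List.mem_filter.2 ⟨hw n, by simpa using hall n⟩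
    have h2 := Nat.le_of_ble_eq_true WeylG2.neg_tab
    have := Nat.mul_le_mul hR4 h2
    omega
  push Not at hall
  obtain ⟨n, hne, hnn⟩ := hall
  have hwl := WeylG2.words_lt (w n) (hw n)
  have hcat : ∀ {A B : List ℕ}, (∀ i ∈ A, i < chevG2.rank) → (∀ i ∈ B, i < chevG2.rank) →
      ∀ i ∈ A ++ B, i < chevG2.rank := fun hA hB i hi => (List.mem_append.1 hi).elim (hA i) (hB i)
  have hform : ∀ a b : E, ∃ c', (a : GL chevG2.Idx K) * (b : GL chevG2.Idx K) = tor chevG2 c' * nL hC K (L a ++ L b) := by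
    intro a b
    obtain ⟨d, hd⟩ := nL_conj_tor (F := K) hC (hL a) (c b)
    refine ⟨c a * d, ?_⟩
    rw [hn a, hn b, nL_append, ← tor_mul]
    simp only [mul_assoc]
    rw [← mul_assoc (nL hC K (L a)), hd, mul_assoc]
  have hsqw : ∀ a : E, WeylG2.eqB (WeylG2.rp 2 (w a)) [] = true := fun a => by
    rw [WeylG2.eqB_iff (WeylG2.rp_lt (WeylG2.words_lt _ (hw a)) 2) (by simp)]
    intro r hr
    rw [← WeylG2.rp_congr (hL a) (hLw a) 2 r hr]
    obtain ⟨c', hc'⟩ := hform a a
    rw [hE2 _ a.2, show (1 : GL chevG2.Idx K) = tor chevG2 1 * nL hC K [] by simp [nL, tor_one]] at hc'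
    rw [show WeylG2.rp 2 (L a) = L a ++ L a by simp [WeylG2.rp, List.replicate]]
    exact (wL_congr hC (by simp) (hcat (hL a) (hL a)) hc' hr).symm
  have hm := List.all_eq_true.1 WeylG2.mov_tab (w n) (hw n)
  rw [hsqw n, Bool.eq_false_iff.2 hne, Bool.eq_false_iff.2 hnn] at hm
  simp only [Bool.not_true, Bool.false_or, Bool.and_eq_true] at hm
  obtain ⟨hmov, hlen⟩ := hm
  have hR3 : R.card ≤ 3 := by
    obtain ⟨i, hi, hi'⟩ := List.any_eq_true.1 hmov
    obtain ⟨r, hr, hr'⟩ := List.any_eq_true.1 hi'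
    rw [List.mem_range] at hi hr
    have hr0 : r < chevG2.nroots := WeylG2.nroots_eq.symm ▸ hr
    have hi0 : i < chevG2.rank := WeylG2.rank_eq.symm ▸ hi
    rw [WeylG2.im_eq hwl hr0, hC.linked.A_eq i hi0 _ (wL_lt hC hwl hr0),
      hC.linked.A_eq i hi0 r hr0, Bool.not_eq_true', beq_eq_false_iff_ne, ← hLw n r hr0] at hr'
    obtain ⟨σ, hσ⟩ : ∃ σ : Fin 2 → Bool, σ = fun j : Fin 2 => decide (j.val = i) := ⟨_, rfl⟩
    have hsub : R ⊆ ((Finset.univ : Finset (Fin 2 → Bool)).erase σ).image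
        fun τ => tor chevG2 (sgn K τ) := by
      intro x hx
      rw [hR, Finset.mem_filter, Finset.mem_image] at hx
      obtain ⟨⟨τ, -, rfl⟩, hxE⟩ := hx
      refine Finset.mem_image.2 ⟨τ, Finset.mem_erase.2 ⟨?_, Finset.mem_univ _⟩, rfl⟩
      intro eτ
      rw [eτ] at hxE
      have hfix : tor chevG2 (c n) * nL hC K (L n) * tor chevG2 (sgn K σ) *
          (tor chevG2 (c n) * nL hC K (L n))⁻¹ = tor chevG2 (sgn K σ) := by
        rw [← hn n, hcomm _ n.2 _ hxE, mul_inv_cancel_right]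
      have hval : ∀ s, torChar chevG2 (sgn K σ) s = (-1 : Kˣ) ^ chevG2.cartan i s := by
        intro s
        rw [torChar, Finset.prod_eq_single i]
        · congr 1
          simp [sgn, hσ, hi]
        · intro j hj hji
          rw [Finset.mem_range, WeylG2.rank_eq] at hj
          simp [sgn, hσ, hj, hji]
        · intro h; exact absurd (Finset.mem_range.2 hi0) h
      have e := char_conj hC (hL n) hfix hr0
      rw [hval, hval] at e
      have hodd : Odd (chevG2.cartan i (wL chevG2 (L n) r) + chevG2.cartan i r) :=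
        Int.not_even_iff_odd.1 fun h => hr' (Int.even_iff.1 h)
      apply hneg
      rw [← hodd.neg_one_zpow (α := Kˣ), zpow_add, e, ← zpow_add, ← two_mul,
        zpow_mul]
      simp
    refine (Finset.card_le_card hsub).trans (Finset.card_image_le.trans ?_)
    rw [Finset.card_erase_of_mem (Finset.mem_univ _)]
    decide
  have := hbound (WeylG2.invComm (w n)) fun m => by
    refine List.mem_filter.2 ⟨hw m, ?_⟩
    rw [Bool.and_eq_true]
    refine ⟨hsqw m, ?_⟩
    have hml := WeylG2.words_lt (w m) (hw m)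
    rw [WeylG2.eqB_iff (hcat hwl hml) (hcat hml hwl)]
    intro r hr
    obtain ⟨c1, h1⟩ := hform n m
    obtain ⟨c2, h2⟩ := hform m n
    rw [hcomm _ n.2 _ m.2, h2] at h1
    have e := wL_congr hC (hcat (hL m) (hL n)) (hcat (hL n) (hL m)) h1 hr
    rw [wL_append, wL_append, hLw n r hr, hLw m _ (wL_lt hC hwl hr), hLw m r hr,
      hLw n _ (wL_lt hC hml hr)] at e
    rw [wL_append, wL_append, e]
  have := Nat.mul_le_mul hR3 (Nat.le_of_ble_eq_true hlen)
  omega

/-- The bound for the alternating sections. -/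
theorem alt_bound {F : Type*} [Field F] [Fintype F] (p : ℕ) [Fact p.Prime] [CharP F p] {r : ℕ}
    (H : Subgroup (chevG2.group F)) (N : Subgroup H) [N.Normal]
    (h : Nonempty (H ⧸ N ≃* alternatingGroup (Fin r))) : r ≤ 6 + (if p = 5 then 1 else 0) := by
  classical
  obtain ⟨φe⟩ := h
  obtain ⟨φ, hφ⟩ : ∃ φ : H →* alternatingGroup (Fin r),
      φ = φe.toMonoidHom.comp (QuotientGroup.mk' N) := ⟨_, rfl⟩
  have hsurj : Function.Surjective φ := hφ ▸ φe.surjective.comp (QuotientGroup.mk'_surjective N)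
  have lift : ∀ {K' : Type} [Field K'] (e : F →+* K'), ∃ ι : H →* chevG2.group K',
      Function.Injective ι := fun e =>
    ⟨((FieldAut.mapGL chevG2 e).comp ((chevG2.group F).subtype.comp H.subtype)).codRestrict _
      (fun x => FieldAut.map_mem_group e x.1.2), fun a b h =>
        (FieldFix.mapGL_injective e).comp (Subtype.val_injective.comp Subtype.val_injective)
          (congrArg Subtype.val h)⟩
  by_cases hp : p = 5
  · rw [if_pos hp]
    obtain ⟨K', _, _, e, hK'⟩ := F4.exists_extension (F := F) p (n := 6) (by norm_num)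
    haveI : Fact (Nat.Prime 7) := ⟨by norm_num⟩
    haveI : Finite (chevG2.group K') := Finite.of_injective _ Subtype.val_injective
    haveI : CharP K' p := RingHom.charP_iff_charP e p |>.1 inferInstance
    have h4 : Fintype.card K' % 4 = 1 := by
      obtain ⟨n, -, hn⟩ := FiniteField.card F p
      rw [hK', hn, hp, ← pow_mul, Nat.pow_mod]
      simp
    obtain ⟨ι, hι⟩ := lift e
    refine RankTwo.alt_bound_seven hι hsurj (T := torus K')
      (torus_index (hK' ▸ F4.pow_cast_one (F4.not_dvd_card p (by norm_num) (by omega)) (by norm_num))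
        (by norm_num)) tri (cent ?_) (rank_bound h4 fun h1 => ?_)
    · rw [Nat.card_eq_fintype_card]; omega
    · haveI : CharP K' 5 := hp ▸ inferInstance
      have h5 : ((2 : ℕ) : K') = 0 := by
        have := congrArg (fun t : K'ˣ => (t : K') + 1) h1
        simp only [Units.val_neg, Units.val_one, neg_add_cancel, one_add_one_eq_two] at this
        exact_mod_cast this.symm
      exact absurd ((CharP.cast_eq_zero_iff K' 5 2).1 h5) (by norm_num)
  · rw [if_neg hp, add_zero]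
    obtain ⟨K', _, _, e, hK'⟩ := F4.exists_extension (F := F) p (n := 4) (by norm_num)
    haveI : Fact (Nat.Prime 5) := ⟨by norm_num⟩
    haveI : Finite (chevG2.group K') := Finite.of_injective _ Subtype.val_injective
    obtain ⟨ι, hι⟩ := lift e
    exact RankTwo.alt_bound_six hι hsurj (T := torus K')
      (torus_index (hK' ▸ F4.pow_cast_one (F4.not_dvd_card p (by norm_num) (by omega)) (by norm_num))
        (by norm_num)) tri

end Cfsg.Agent.Chevalley.AltSection.G2
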