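import Cfsg.Agent.Lib.Chevalley.Singer.Torus

/-! Lifting normalizing elements to Sylow subgroups of preimages. -/

set_option autoImplicit false

namespace Cfsg.Agent.Chevalley.AltSection

variable {H : Type*} [Group H] [Finite H]

/-- An element normalizing a subgroup can be corrected to normalize a given Sylow subgroup of it. -/
theorem frattini {L : Subgroup H} {ℓ : ℕ} [Fact ℓ.Prime] (P : Sylow ℓ L) {h : H}
    (hh : ∀ x, x ∈ L ↔ h * x * h⁻¹ ∈ L) :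
    ∃ l ∈ L, ∀ x ∈ (P : Subgroup L).map L.subtype,
      l * h * x * (l * h)⁻¹ ∈ (P : Subgroup L).map L.subtype := by
  obtain ⟨b, hb⟩ : ∃ b : MulAut L, ∀ x : L, ((b x : L) : H) = h * x * h⁻¹ := ⟨
    { toFun := fun x => ⟨h * x * h⁻¹, (hh x).1 x.2⟩
      invFun := fun x => ⟨h⁻¹ * x * h, (hh _).2 (by simp [mul_assoc])⟩
      left_inv := fun x => Subtype.ext (by simp [mul_assoc])
      right_inv := fun x => Subtype.ext (by simp [mul_assoc])
      map_mul' := fun x y => Subtype.ext (by simp [mul_assoc]) }, fun x => rfl⟩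
  obtain ⟨l, hl⟩ := MulAction.exists_smul_eq L (b • P) P
  refine ⟨l, l.2, fun x hx => ?_⟩
  obtain ⟨y, hy, rfl⟩ := hx
  refine ⟨l * b y * l⁻¹, ?_, ?_⟩
  · have h1 : b y ∈ ((b • P : Sylow ℓ L) : Subgroup L) := ⟨y, hy, rfl⟩
    have h2 : l * b y * l⁻¹ ∈ ((l • (b • P) : Sylow ℓ L) : Subgroup L) := by
      rw [Sylow.coe_subgroup_smul]; exact ⟨b y, h1, rfl⟩
    rwa [hl] at h2
  · simp [hb, mul_assoc]

/-- A homomorphism with commutative image on `L` is matched on a Sylow subgroup. -/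
theorem mem_map_sylow {A : Type*} [Group A] (φ : H →* A) {L : Subgroup H}
    (hab : ∀ a ∈ L, ∀ b ∈ L, φ a * φ b = φ b * φ a) {ℓ : ℕ} [Fact ℓ.Prime] (P : Sylow ℓ L)
    {x : H} (hx : x ∈ L) (hord : orderOf (φ x) = ℓ) :
    φ x ∈ ((P : Subgroup L).map L.subtype).map φ := by
  obtain ⟨N, hN⟩ : ∃ N, N = orderOf x := ⟨_, rfl⟩
  have hN0 : N ≠ 0 := hN ▸ (orderOf_pos x).ne'
  obtain ⟨e, m, hm, he⟩ := Nat.exists_eq_pow_mul_and_not_dvd hN0 ℓ (Nat.Prime.one_lt Fact.out).ne'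
  have hpow : (x ^ m) ^ ℓ ^ e = 1 := by
    rw [← pow_mul, mul_comm, ← he, hN, pow_orderOf_eq_one]
  have hxm : x ^ m ∈ L := pow_mem hx m
  have hp : IsPGroup ℓ (Subgroup.zpowers (⟨x ^ m, hxm⟩ : L)) := by
    obtain ⟨k, -, hk⟩ := (Nat.dvd_prime_pow Fact.out).1 (orderOf_dvd_of_pow_eq_one
      (show (⟨x ^ m, hxm⟩ : L) ^ ℓ ^ e = 1 from Subtype.ext hpow))
    exact IsPGroup.of_card (n := k) (by rw [Nat.card_zpowers, hk])
  obtain ⟨S, hS⟩ := IsPGroup.exists_le_sylow hp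
  obtain ⟨l, hl⟩ := MulAction.exists_smul_eq L S P
  have h1 : l * ⟨x ^ m, hxm⟩ * l⁻¹ ∈ (P : Subgroup L) := by
    rw [← hl, Sylow.coe_subgroup_smul]
    exact ⟨_, hS (Subgroup.mem_zpowers _), rfl⟩
  have h2 : φ x ^ m ∈ ((P : Subgroup L).map L.subtype).map φ := by
    refine ⟨_, ⟨_, h1, rfl⟩, ?_⟩
    simp only [Subgroup.subtype_apply, Subgroup.coe_mul, Subgroup.coe_inv, map_mul, map_inv]
    rw [hab _ l.2 _ hxm, mul_inv_cancel_right, map_pow]
  have hco : Nat.Coprime m (orderOf (φ x)) := by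
    rw [hord]; exact ((Nat.Prime.coprime_iff_not_dvd Fact.out).2 hm).symm
  obtain ⟨j, hj⟩ := exists_pow_eq_self_of_coprime hco
  exact hj ▸ pow_mem h2 j

/-- Subgroups of prime power order are conjugate into a subgroup of coprime index. -/
theorem conj_into {G : Type*} [Group G] [Finite G] {T : Subgroup G} {ℓ : ℕ} [Fact ℓ.Prime]
    (hidx : ¬ ℓ ∣ T.index) {C : Subgroup G} (hTC : T ≤ C) {Q : Subgroup G} (hQC : Q ≤ C)
    (hQ : IsPGroup ℓ Q) : ∃ g ∈ C, ∀ x ∈ Q, g * x * g⁻¹ ∈ T := by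
  classical
  obtain ⟨T', hT'⟩ : ∃ T', T' = T.subgroupOf C := ⟨_, rfl⟩
  have hidx' : ¬ ℓ ∣ T'.index := fun h => hidx (by
    rw [← Subgroup.relIndex_mul_index hTC]
    refine dvd_mul_of_dvd_left ?_ _
    rw [hT'] at h
    exact h)
  obtain ⟨P⟩ : Nonempty (Sylow ℓ T') := inferInstance
  have hP : IsPGroup ℓ ((P : Subgroup T').map T'.subtype) := P.2.map _
  have hidx2 : ¬ ℓ ∣ ((P : Subgroup T').map T'.subtype).index := by
    rw [Subgroup.index_map_subtype]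
    exact Nat.Prime.not_dvd_mul Fact.out P.not_dvd_index hidx'
  obtain ⟨S', hS'⟩ := IsPGroup.exists_le_sylow hP
  have hS'eq : (S' : Subgroup C) = (P : Subgroup T').map T'.subtype :=
    (hP.toSylow hidx2).3 S'.2 hS'
  obtain ⟨S, hS⟩ := IsPGroup.exists_le_sylow
    (hQ.comap_of_injective C.subtype Subtype.val_injective : IsPGroup ℓ (Q.comap C.subtype))
  obtain ⟨g, hg⟩ := MulAction.exists_smul_eq C S S'
  refine ⟨g, g.2, fun x hx => ?_⟩
  have : g * ⟨x, hQC hx⟩ * g⁻¹ ∈ (S' : Subgroup C) := by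
    rw [← hg, Sylow.coe_subgroup_smul]
    exact ⟨⟨x, hQC hx⟩, hS (Subgroup.mem_comap.2 hx), rfl⟩
  rw [hS'eq] at this
  obtain ⟨y, -, hy⟩ := this
  have h2 := y.2
  simp only [hT', Subgroup.mem_subgroupOf] at h2
  have h3 : ((y : C) : G) = g * x * g⁻¹ := congrArg Subtype.val hy
  exact h3 ▸ h2

end Cfsg.Agent.Chevalley.AltSection
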