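import Cfsg.Agent.Lib.Chevalley.Types.G2
import Cfsg.Agent.Lib.Chevalley.Twist.Build
import Cfsg.Agent.Lib.Chevalley.WeylEnum
import Cfsg.Agent.Lib.Chevalley.StConj

/-! The twelve elements of the Weyl group of type G2. -/

set_option autoImplicit false
set_option maxRecDepth 100000

namespace Cfsg.Agent.Chevalley.AltSection.WeylG2

open Cfsg.Lie Cfsg.Agent.Chevalley Cfsg.Agent.Chevalley.Table Cfsg.Agent.Chevalley.Cert
  Cfsg.Agent.Chevalley.Group Cfsg.Agent.Chevalley.WeylEnum Cfsg.Agent.Chevalley.Twist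

abbrev hC : Certified chevG2 Data.G2.tab := Types.G2.certified

/-- The elements. -/
def words : List (List ℕ) := [[], [0], [1], [0, 1], [1, 0], [0, 1, 0], [1, 0, 1], [0, 1, 0, 1],
  [1, 0, 1, 0], [0, 1, 0, 1, 0], [1, 0, 1, 0, 1], [0, 1, 0, 1, 0, 1]]

/-- Powers of a word. -/
def rp (n : ℕ) (e : List ℕ) : List ℕ := (List.replicate n e).flatten

/-- The image of a root. -/
noncomputable def im (e : List ℕ) (r : ℕ) : ℕ := applyW Data.G2.tab e r

/-- Two words give the same permutation. -/
noncomputable def eqB (e e' : List ℕ) : Bool :=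
  (List.range 12).all fun r => Nat.beq (im e r) (im e' r)

/-- Three words send the characters of each root to a relation with the given signs. -/
noncomputable def relB (a b : ℤ) (e : List ℕ) : Bool :=
  (List.range 12).all fun r => (List.range 2).all fun i =>
    Data.G2.tab.A i (im (rp 2 e) r) + a * Data.G2.tab.A i (im e r) + b * Data.G2.tab.A i r == 0

/-- The word acts as minus one. -/
noncomputable def negB (e : List ℕ) : Bool :=
  (List.range 12).all fun r => (List.range 2).all fun i =>
    Data.G2.tab.A i (im e r) + Data.G2.tab.A i r == 0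

/-- The word moves the sign character at some parameter. -/
noncomputable def movB (e : List ℕ) : Bool :=
  (List.range 2).any fun i => (List.range 12).any fun r =>
    !((Data.G2.tab.A i (im e r) + Data.G2.tab.A i r) % 2 == 0)

/-- The involutions commuting with a given one. -/
noncomputable def invComm (e : List ℕ) : List (List ℕ) :=
  words.filter fun e' => eqB (rp 2 e') [] && eqB (e ++ e') (e' ++ e)

theorem rank_eq : chevG2.rank = 2 := by decide +kernel

theorem nroots_eq : chevG2.nroots = 12 := by decide +kernel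

theorem step_tab : ((List.range 2).all fun a => words.all fun e => words.any fun e' =>
    eqB (a :: e) e') = true := by decide +kernel

theorem six_tab : (words.all fun e => eqB (rp 6 e) []) = true := by decide +kernel

theorem tri_tab : (words.all fun e => eqB (rp 2 e) [] || relB (-1) 1 e || relB 1 1 e) = true := by
  decide +kernel

theorem pair_tab : (words.all fun e => !(relB 1 1 e) || words.all fun f =>
    eqB f [] || negB f || relB (-1) 1 f || relB 1 1 f || eqB (f ++ e ++ f) (rp 2 e)) = true := by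
  decide +kernel

theorem mov_tab : (words.all fun e => !(eqB (rp 2 e) []) || eqB e [] || negB e ||
    (movB e && Nat.ble (invComm e).length 4)) = true := by decide +kernel

theorem neg_tab : Nat.ble (words.filter fun e => eqB e [] || negB e).length 2 = true := by
  decide +kernel

theorem words_lt : ∀ e ∈ words, ∀ i ∈ e, i < chevG2.rank := by decide +kernel

theorem rp_lt {e : List ℕ} (he : ∀ i ∈ e, i < chevG2.rank) (n : ℕ) :
    ∀ i ∈ rp n e, i < chevG2.rank := fun i hi => by
  obtain ⟨l, hl, hil⟩ := List.mem_flatten.1 hi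
  rw [List.eq_of_mem_replicate hl] at hil
  exact he i hil

theorem im_eq {e : List ℕ} (he : ∀ i ∈ e, i < chevG2.rank) {r : ℕ} (hr : r < chevG2.nroots) :
    im e r = wL chevG2 e r := StConj.actT_foldr hC he hr

theorem eqB_iff {e e' : List ℕ} (he : ∀ i ∈ e, i < chevG2.rank) (he' : ∀ i ∈ e', i < chevG2.rank) :
    eqB e e' = true ↔ Eqv chevG2 e e' := by
  simp only [eqB, List.all_eq_true, List.mem_range, Nat.beq_eq]
  refine ⟨fun h r hr => ?_, fun h r hr => ?_⟩
  · rw [← im_eq he hr, ← im_eq he' hr]; exact h r (nroots_eq ▸ hr)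
  · have hr' : r < chevG2.nroots := nroots_eq.symm ▸ hr
    rw [im_eq he hr', im_eq he' hr']; exact h r hr'

theorem cover : ∀ L : List ℕ, (∀ i ∈ L, i < chevG2.rank) → ∃ e ∈ words, Eqv chevG2 L e
  | [], _ => ⟨[], by simp [words], fun _ _ => rfl⟩
  | a :: L, h => by
    obtain ⟨e, he, hLe⟩ := cover L fun b hb => h b (List.mem_cons_of_mem a hb)
    obtain ⟨e', he', hee⟩ := List.any_eq_true.1 (List.all_eq_true.1 (List.all_eq_true.1 step_tab a
      (List.mem_range.2 (rank_eq ▸ h a List.mem_cons_self))) e he)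
    have hae : ∀ i ∈ a :: e, i < chevG2.rank :=
      List.forall_mem_cons.2 ⟨h a List.mem_cons_self, words_lt e he⟩
    refine ⟨e', he', fun r hr => ?_⟩
    rw [← (eqB_iff hae (words_lt e' he')).1 hee r hr, show a :: L = [a] ++ L from rfl,
      show a :: e = [a] ++ e from rfl, wL_append, wL_append, hLe r hr]

theorem rp_congr {L e : List ℕ} (hL : ∀ i ∈ L, i < chevG2.rank) (h : Eqv chevG2 L e) :
    ∀ n, ∀ r < chevG2.nroots, wL chevG2 (rp n L) r = wL chevG2 (rp n e) r := by
  intro n
  induction n with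
  | zero => intro r _; rfl
  | succ n ih =>
    intro r hr
    simp only [rp, List.replicate_succ, List.flatten_cons, wL_append] at ih ⊢
    rw [← ih r hr]
    exact h _ (wL_lt hC (rp_lt hL n) hr)

theorem six {L : List ℕ} (hL : ∀ i ∈ L, i < chevG2.rank) :
    ∀ r < chevG2.nroots, wL chevG2 (rp 6 L) r = r := by
  intro r hr
  obtain ⟨e, he, hLe⟩ := cover L hL
  rw [rp_congr hL hLe 6 r hr]
  exact (eqB_iff (rp_lt (words_lt e he) 6) (by simp)).1 (List.all_eq_true.1 six_tab e he) r hr

/-- A relation in the characters. -/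
def Rel (a b : ℤ) (L : List ℕ) : Prop :=
  ∀ r < chevG2.nroots, ∀ i < chevG2.rank, chevG2.cartan i (wL chevG2 (rp 2 L) r) +
    a * chevG2.cartan i (wL chevG2 L r) + b * chevG2.cartan i r = 0

theorem rel_of {L e : List ℕ} {a b : ℤ} (hL : ∀ i ∈ L, i < chevG2.rank) (he : ∀ i ∈ e, i < chevG2.rank)
    (h : Eqv chevG2 L e) (hb : relB a b e = true) : Rel a b L := by
  intro r hr i hi
  have h1 := List.all_eq_true.1 (List.all_eq_true.1 hb r (List.mem_range.2 (nroots_eq ▸ hr))) i
    (List.mem_range.2 (rank_eq ▸ hi))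
  rw [beq_iff_eq, im_eq (rp_lt he 2) hr, im_eq he hr, ← rp_congr hL h 2 r hr, ← h r hr,
    hC.linked.A_eq i hi _ (wL_lt hC (rp_lt hL 2) hr), hC.linked.A_eq i hi _ (wL_lt hC hL hr),
    hC.linked.A_eq i hi r hr] at h1
  exact h1

theorem trichotomy {L : List ℕ} (hL : ∀ i ∈ L, i < chevG2.rank) :
    (∀ r < chevG2.nroots, wL chevG2 (rp 2 L) r = r) ∨ Rel (-1) 1 L ∨ Rel 1 1 L := by
  obtain ⟨e, he, hLe⟩ := cover L hL
  have h := List.all_eq_true.1 tri_tab e he
  simp only [Bool.or_eq_true] at h
  rcases h with (h | h) | h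
  · exact Or.inl fun r hr => (rp_congr hL hLe 2 r hr).trans
      ((eqB_iff (rp_lt (words_lt e he) 2) (by simp)).1 h r hr)
  · exact Or.inr (Or.inl (rel_of hL (words_lt e he) hLe h))
  · exact Or.inr (Or.inr (rel_of hL (words_lt e he) hLe h))

/-- The word acts as minus one. -/
def Neg (L : List ℕ) : Prop :=
  ∀ r < chevG2.nroots, ∀ i < chevG2.rank,
    chevG2.cartan i (wL chevG2 L r) + chevG2.cartan i r = 0

theorem neg_of {L e : List ℕ} (hL : ∀ i ∈ L, i < chevG2.rank) (he : ∀ i ∈ e, i < chevG2.rank)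
    (h : Eqv chevG2 L e) (hb : negB e = true) : Neg L := by
  intro r hr i hi
  have h1 := List.all_eq_true.1 (List.all_eq_true.1 hb r (List.mem_range.2 (nroots_eq ▸ hr))) i
    (List.mem_range.2 (rank_eq ▸ hi))
  rw [beq_iff_eq, im_eq he hr, ← h r hr, hC.linked.A_eq i hi _ (wL_lt hC hL hr),
    hC.linked.A_eq i hi r hr] at h1
  exact h1

theorem pair {L M : List ℕ} (hL : ∀ i ∈ L, i < chevG2.rank) (hM : ∀ i ∈ M, i < chevG2.rank)
    (h : Rel 1 1 L) :
    Eqv chevG2 M [] ∨ Neg M ∨ Rel (-1) 1 M ∨ Rel 1 1 M ∨ Eqv chevG2 (M ++ L ++ M) (rp 2 L) := by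
  obtain ⟨e, he, hLe⟩ := cover L hL
  obtain ⟨f, hf, hMf⟩ := cover M hM
  have hrel : relB 1 1 e = true := by
    refine List.all_eq_true.2 fun r hr => List.all_eq_true.2 fun i hi => ?_
    rw [List.mem_range] at hr hi
    have hr' : r < chevG2.nroots := nroots_eq.symm ▸ hr
    have hi' : i < chevG2.rank := rank_eq.symm ▸ hi
    rw [beq_iff_eq, im_eq (rp_lt (words_lt e he) 2) hr', im_eq (words_lt e he) hr',
      ← rp_congr hL hLe 2 r hr', ← hLe r hr',
      hC.linked.A_eq i hi' _ (wL_lt hC (rp_lt hL 2) hr'), hC.linked.A_eq i hi' _ (wL_lt hC hL hr'),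
      hC.linked.A_eq i hi' r hr']
    exact h r hr' i hi'
  have h1 := List.all_eq_true.1 pair_tab e he
  rw [hrel, Bool.not_true, Bool.false_or] at h1
  have h2 := List.all_eq_true.1 h1 f hf
  simp only [Bool.or_eq_true] at h2
  rcases h2 with (((h2 | h2) | h2) | h2) | h2
  · exact Or.inl fun r hr => (hMf r hr).trans ((eqB_iff (words_lt f hf) (by simp)).1 h2 r hr)
  · exact Or.inr (Or.inl (neg_of hM (words_lt f hf) hMf h2))
  · exact Or.inr (Or.inr (Or.inl (rel_of hM (words_lt f hf) hMf h2)))
  · exact Or.inr (Or.inr (Or.inr (Or.inl (rel_of hM (words_lt f hf) hMf h2))))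
  · refine Or.inr (Or.inr (Or.inr (Or.inr fun r hr => ?_)))
    have hfl := words_lt f hf
    have hel := words_lt e he
    have hfef : ∀ i ∈ f ++ e ++ f, i < chevG2.rank := fun i hi => by
      simp only [List.mem_append] at hi
      rcases hi with (hi | hi) | hi
      exacts [hfl i hi, hel i hi, hfl i hi]
    have e1 := (eqB_iff hfef (rp_lt hel 2)).1 h2 r hr
    rw [← rp_congr hL hLe 2 r hr, wL_append, wL_append] at e1
    rw [← e1, wL_append, wL_append, hMf r hr, hLe _ (wL_lt hC hfl hr),
      hMf _ (wL_lt hC hel (wL_lt hC hfl hr))]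

end Cfsg.Agent.Chevalley.AltSection.WeylG2
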